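import Groth.Agent.CohqA.BaseChangeMod
import Mathlib.LinearAlgebra.TensorProduct.Tower

/-!
# `N ⊗[A] E = N ⊗[B] (B ⊗[A] E)` for unbundled base changes
-/

set_option autoImplicit false
universe u
open Groth.Agent.CohqA.BaseChangeMod
open scoped TensorProduct

namespace K355

theorem bijective_tensor_of_isBC {A B : Type u} [CommRing A] [CommRing B] (φ : A →+* B)
    {N E E' : Type u} [AddCommGroup N] [Module A N] [Module B N]
    (hN : ∀ (a : A) (n : N), a • n = φ a • n) [AddCommGroup E] [Module A E]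
    [AddCommGroup E'] [Module B E'] (f : E →+ E') (h : IsBC φ f)
    (ψ : N ⊗[A] E →+ N ⊗[B] E') (hψ : ∀ n e, ψ (n ⊗ₜ e) = n ⊗ₜ f e) :
    Function.Bijective ψ := by
  letI : Algebra A B := φ.toAlgebra
  letI : Module A E' := Module.compHom E' φ
  have h1 : IsScalarTower A B E' := ⟨fun a b x => by
    change (φ a * b) • x = φ a • (b • x)
    rw [mul_smul]⟩
  have h2 : IsScalarTower A B N := ⟨fun a b x => by
    change (φ a * b) • x = a • (b • x)
    rw [mul_smul, hN]⟩
  let f' : E →ₗ[A] E' := { f with map_smul' := h.map_smul }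
  have h3 : IsBaseChange B f' := (isBC_iff_isBaseChange f').1 h
  let e1 : N ⊗[B] (B ⊗[A] E) ≃ₗ[B] N ⊗[A] E :=
    TensorProduct.AlgebraTensorModule.cancelBaseChange A B B N E
  let e2 : N ⊗[B] (B ⊗[A] E) ≃ₗ[B] N ⊗[B] E' :=
    TensorProduct.congr (LinearEquiv.refl B N) h3.equiv
  have key : ∀ x, ψ x = e2 (e1.symm x) := by
    intro x
    induction x using TensorProduct.induction_on with
    | zero => rw [map_zero, map_zero, map_zero]
    | tmul n e =>
      have h4 : e1.symm (n ⊗ₜ[A] e) = n ⊗ₜ[B] ((1 : B) ⊗ₜ[A] e) := by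
        rw [LinearEquiv.symm_apply_eq]
        exact (TensorProduct.AlgebraTensorModule.cancelBaseChange_tmul A B B n e (1 : B)).symm ▸
          (by rw [one_smul])
      rw [hψ, h4]
      change _ = n ⊗ₜ[B] (h3.equiv ((1 : B) ⊗ₜ[A] e))
      rw [IsBaseChange.equiv_tmul, one_smul]
      rfl
    | add x y hx hy => rw [map_add, map_add, map_add, hx, hy]
  have : (ψ : N ⊗[A] E → N ⊗[B] E') = (e1.symm.trans e2 : _ ≃ₗ[B] _) := funext key
  rw [this]
  exact LinearEquiv.bijective _

end K355
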