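import Groth.Agent.Dcoh.ClosedProj
import Groth.Agent.Ega1.TensorRestrict
import Groth.Agent.CohqA.PullbackQCoh
import Groth.Agent.Models2.QCohPush
import Groth.Agent.FunMor.K355.TensBC

/-!
# The projection formula for quasi-coherent modules along an affine morphism
-/

set_option autoImplicit false
universe u
open CategoryTheory CategoryTheory.Limits AlgebraicGeometry TopologicalSpace Opposite
open scoped TensorProduct

namespace K355

open Groth.Agent.CohqA.BaseChangeMod Groth.Agent.CohqA.PullbackUniv Groth.Agent.Dcoh.ClosedProj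
open Groth.Agent.Ega1.TensorRestrict Groth.Agent.Fdesc.LocGen Groth.Agent.PerfC.TensRestr

section

variable {X Y : Scheme.{u}} (f : X ⟶ Y) (G : X.Modules) (E : Y.Modules)

theorem toT_tmul (F : X.Modules) (U : X.Opens) (m : Γ(G, U)) (n : Γ(F, U)) :
    toT G F U (m ⊗ₜ[Γ(X, U)] n) =
      tm (M := G) (N := F) (U := U) m n := rfl

/-- The map `f_*G(V) ⊗ E(V) → G(f⁻¹V) ⊗ (f^*E)(f⁻¹V)`. -/
noncomputable def psiT (V : Y.Opens) :
    PT ((Scheme.Modules.pushforward f).obj G) E V →+
      PT G ((Scheme.Modules.pullback f).obj E) (f ⁻¹ᵁ V) :=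
  TensorProduct.liftAddHom
    (M := Γ((Scheme.Modules.pushforward f).obj G, V)) (N := Γ(E, V)) (R := Γ(Y, V))
    (P := PT G ((Scheme.Modules.pullback f).obj E) (f ⁻¹ᵁ V))
    { toFun := fun g =>
        { toFun := fun e => (show Γ(G, f ⁻¹ᵁ V) from g) ⊗ₜ[Γ(X, f ⁻¹ᵁ V)] (pullSec f e)
          map_zero' := by
            have : pullSec f (0 : Γ(E, V)) = 0 :=
              map_zero (((Scheme.Modules.pullbackPushforwardAdjunction f).unit.app E).app V).hom
            rw [this, TensorProduct.tmul_zero]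
          map_add' := fun e e' => by rw [pullSec_add, TensorProduct.tmul_add] }
      map_zero' := by
        ext e
        exact TensorProduct.zero_tmul _ _
      map_add' := fun g g' => by
        ext e
        exact TensorProduct.add_tmul _ _ _ }
    (fun r g e => by
      change (show Γ(G, f ⁻¹ᵁ V) from (r • g)) ⊗ₜ[Γ(X, f ⁻¹ᵁ V)] (pullSec f e) =
        (show Γ(G, f ⁻¹ᵁ V) from g) ⊗ₜ[Γ(X, f ⁻¹ᵁ V)] (pullSec f (r • e))
      rw [pullSec_smul]
      exact TensorProduct.smul_tmul (f.app V r : Γ(X, f ⁻¹ᵁ V)) (show Γ(G, f ⁻¹ᵁ V) from g) _)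

theorem psiT_tmul (V : Y.Opens) (g : Γ((Scheme.Modules.pushforward f).obj G, V)) (e : Γ(E, V)) :
    psiT f G E V (g ⊗ₜ[Γ(Y, V)] e) =
      (show Γ(G, f ⁻¹ᵁ V) from g) ⊗ₜ[Γ(X, f ⁻¹ᵁ V)] (pullSec f e) := rfl

theorem app_proj_toT (V : Y.Opens) (x : PT ((Scheme.Modules.pushforward f).obj G) E V) :
    (proj f G E).app V (toT ((Scheme.Modules.pushforward f).obj G) E V x) =
      toT G ((Scheme.Modules.pullback f).obj E) (f ⁻¹ᵁ V) (psiT f G E V x) := by
  induction x using TensorProduct.induction_on with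
  | zero =>
    rw [map_zero, map_zero, map_zero]
    exact map_zero ((proj f G E).app V).hom
  | tmul g e =>
    rw [toT_tmul]
    exact proj_tm f G E g e
  | add x y hx hy =>
    rw [map_add, map_add, map_add, ← hx, ← hy]
    exact map_add ((proj f G E).app V).hom _ _

/-- `pullSec` as an additive map. -/
noncomputable def pullSecHom (V : Y.Opens) :
    Γ(E, V) →+ Γ((Scheme.Modules.pullback f).obj E, f ⁻¹ᵁ V) where
  toFun e := pullSec f e
  map_zero' := map_zero (((Scheme.Modules.pullbackPushforwardAdjunction f).unit.app E).app V).hom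
  map_add' e e' := pullSec_add f e e'

theorem pullSec_isBC [E.IsQuasicoherent] {V : Y.Opens} (hV : IsAffineOpen V)
    (hU : IsAffineOpen (f ⁻¹ᵁ V)) :
    IsBC (f.app V).hom (pullSecHom f E V) := by
  have h := Groth.Agent.CohqA.PullbackSections.isBC_secMap f
    (Groth.Agent.CohqA.PullbackSections.pbUnit f E)
    (Groth.Agent.CohqA.PullbackSections.isUniv_pbUnit f E) hV hU le_rfl
  have h1 : (f.appLE V (f ⁻¹ᵁ V) le_rfl).hom = (f.app V).hom := by
    rw [Scheme.Hom.appLE_eq_app]
  have h2 : (Groth.Agent.CohqA.PullbackAffine.secMap f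
      (Groth.Agent.CohqA.PullbackSections.pbUnit f E) V (f ⁻¹ᵁ V) le_rfl).hom =
      pullSecHom f E V := by
    ext x
    exact ConcreteCategory.congr_hom
      (((Scheme.Modules.pullback f).obj E).presheaf.map_id (op (f ⁻¹ᵁ V))) _
  rw [h1, h2] at h
  exact h

theorem bijective_psiT [E.IsQuasicoherent] {V : Y.Opens} (hV : IsAffineOpen V)
    (hU : IsAffineOpen (f ⁻¹ᵁ V)) : Function.Bijective (psiT f G E V) := by
  let : Module Γ(Y, V) Γ(G, f ⁻¹ᵁ V) :=
    (((Scheme.Modules.pushforward f).obj G).val.obj (.op V)).isModule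
  exact bijective_tensor_of_isBC (A := Γ(Y, V)) (B := Γ(X, f ⁻¹ᵁ V)) (f.app V).hom
    (N := Γ(G, f ⁻¹ᵁ V)) (E := Γ(E, V)) (E' := Γ((Scheme.Modules.pullback f).obj E, f ⁻¹ᵁ V))
    (fun a n => rfl) _ (pullSec_isBC f E hV hU) (psiT f G E V) (fun n e => rfl)

/-- The projection formula for quasi-coherent modules along an affine morphism. -/
theorem isIso_proj_affine [IsAffineHom f] (hG : Coh.IsQCoh G) (hE : Coh.IsQCoh E) :
    IsIso (proj f G E) := by
  refine Groth.Agent.Models2.QCohPush.isIso_of_affine _ fun V => ?_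
  have hfG : Coh.IsQCoh ((Scheme.Modules.pushforward f).obj G) :=
    Groth.Agent.Ega1.QcqsPush.isQCoh_pushforward f G hG
  have hE' : E.IsQuasicoherent := hE
  have hfE : Coh.IsQCoh ((Scheme.Modules.pullback f).obj E) :=
    Groth.Agent.CohqA.PullbackQCoh.isQuasicoherent_of_isUniv f
      (Groth.Agent.CohqA.PullbackSections.pbUnit f E)
      (Groth.Agent.CohqA.PullbackSections.isUniv_pbUnit f E)
  have hU : IsAffineOpen (f ⁻¹ᵁ V.1) := V.2.preimage f
  have h1 := bijective_toT _ _ hfG hE V.2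
  have h2 := bijective_toT _ _ hG hfE hU
  have h3 := bijective_psiT f G E V.2 hU
  have h4 : Function.Bijective (fun x => (proj f G E).app V.1
      (toT ((Scheme.Modules.pushforward f).obj G) E V.1 x)) := by
    rw [show (fun x => (proj f G E).app V.1 (toT ((Scheme.Modules.pushforward f).obj G) E V.1 x)) =
      (fun x => toT G ((Scheme.Modules.pullback f).obj E) (f ⁻¹ᵁ V.1) (psiT f G E V.1 x)) from
      funext fun x => app_proj_toT f G E V.1 x]
    exact h2.comp h3
  exact (Function.Bijective.of_comp_iff _ h1).1 h4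

end

end K355
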