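import Groth.Agent.FunMor.K355.BCMap
import Groth.Agent.FunMor.K355.ProjAff
import Groth.Agent.Sga67.ClosedTens
import Groth.Agent.Models2.FMExact

/-!
# Natural isomorphisms for the Fourier–Mukai type functors `M ↦ p₂_* (p₁^* M ⊗ K)`
-/

set_option autoImplicit false
universe u
open CategoryTheory CategoryTheory.Limits AlgebraicGeometry

namespace K355

section

variable {X Y : Scheme.{u}} (f : X ⟶ Y)

/-- The projection map `f_* M ⊗ K ⟶ f_* (M ⊗ f^* K)`, natural in `M`. -/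
noncomputable def projR (K : Y.Modules) :
    Scheme.Modules.pushforward f ⋙ DCoh.tensorRightMod K ⟶
      DCoh.tensorRightMod ((Scheme.Modules.pullback f).obj K) ⋙ Scheme.Modules.pushforward f where
  app M := Groth.Agent.Dcoh.ClosedProj.proj f M K
  naturality _ _ φ := Groth.Agent.Dcoh.ClosedProj.proj_naturality_left f φ K

/-- The projection formula for quasi-coherent modules along an affine morphism, naturally. -/
noncomputable def projAffIso [IsAffineHom f] (K : Y.Modules) (hK : Coh.IsQCoh K) :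
    (QCohCat.isQCoh X).ι ⋙ Scheme.Modules.pushforward f ⋙ DCoh.tensorRightMod K ≅
      (QCohCat.isQCoh X).ι ⋙ DCoh.tensorRightMod ((Scheme.Modules.pullback f).obj K) ⋙
        Scheme.Modules.pushforward f :=
  haveI : IsIso (Functor.whiskerLeft (QCohCat.isQCoh X).ι (projR f K)) := by
    have : ∀ M, IsIso ((Functor.whiskerLeft (QCohCat.isQCoh X).ι (projR f K)).app M) := fun M =>
      isIso_proj_affine f M.obj K M.property hK
    exact NatIso.isIso_of_isIso_app _
  asIso (Functor.whiskerLeft (QCohCat.isQCoh X).ι (projR f K))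

open scoped Groth.Agent.Dcoh.MonCat in
/-- `f^* (M ⊗ K) ≅ f^* M ⊗ f^* K`, natural in `M`. -/
noncomputable def muIsoR (K : Y.Modules) :
    DCoh.tensorRightMod K ⋙ Scheme.Modules.pullback f ≅
      Scheme.Modules.pullback f ⋙ DCoh.tensorRightMod ((Scheme.Modules.pullback f).obj K) :=
  letI := Groth.Agent.Dcoh.MonPull.monPull f
  NatIso.ofComponents (fun M => (Functor.Monoidal.μIso (Scheme.Modules.pullback f) M K).symm)
    (fun g => (Functor.OplaxMonoidal.δ_natural_left (F := Scheme.Modules.pullback f) g K).symm)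

theorem isQCoh_pull (M : Y.Modules) (hM : Coh.IsQCoh M) :
    Coh.IsQCoh ((Scheme.Modules.pullback f).obj M) :=
  haveI : M.IsQuasicoherent := hM
  Groth.Agent.CohqA.PullbackQCoh.isQuasicoherent_of_isUniv f
    (Groth.Agent.CohqA.PullbackSections.pbUnit f M)
    (Groth.Agent.CohqA.PullbackSections.isUniv_pbUnit f M)

/-- Pullback of quasi-coherent modules. -/
noncomputable abbrev pullQ : QCohCat.QCoh Y ⥤ QCohCat.QCoh X :=
  (QCohCat.isQCoh X).lift ((QCohCat.isQCoh Y).ι ⋙ Scheme.Modules.pullback f)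
    (fun M => isQCoh_pull f M.obj M.property)

/-- Tensor product with a quasi-coherent module. -/
noncomputable abbrev tensQ (K : Y.Modules) (hK : Coh.IsQCoh K) :
    QCohCat.QCoh Y ⥤ QCohCat.QCoh Y :=
  (QCohCat.isQCoh Y).lift ((QCohCat.isQCoh Y).ι ⋙ DCoh.tensorRightMod K)
    (fun M => Groth.Agent.Ega1.TensorRestrict.isQCoh_tensorMod M.obj K M.property hK)

/-- `f_* g_* = h_*` if `f ≫ g = h`. -/
noncomputable def pushIso {Z : Scheme.{u}} (g : Y ⟶ Z) (h : X ⟶ Z) (e : f ≫ g = h) :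
    Scheme.Modules.pushforward f ⋙ Scheme.Modules.pushforward g ≅ Scheme.Modules.pushforward h :=
  Scheme.Modules.pushforwardComp f g ≪≫ Scheme.Modules.pushforwardCongr e

/-- `g^* f^* = h^*` if `f ≫ g = h`. -/
noncomputable def pullIso {Z : Scheme.{u}} (g : Y ⟶ Z) (h : X ⟶ Z) (e : f ≫ g = h) :
    Scheme.Modules.pullback g ⋙ Scheme.Modules.pullback f ≅ Scheme.Modules.pullback h :=
  Scheme.Modules.pullbackComp f g ≪≫ Scheme.Modules.pullbackCongr e

end

/-- The functor `M ↦ q_* (p^* M ⊗ K)`. -/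
noncomputable abbrev FM {X Y P : Scheme.{u}} (p : P ⟶ X) (q : P ⟶ Y) (K : P.Modules) :
    X.Modules ⥤ Y.Modules :=
  Scheme.Modules.pullback p ⋙ DCoh.tensorRightMod K ⋙ Coh.push q

/-- Precomposition with the pushforward along an affine morphism. -/
theorem nonempty_push_FM {X Y X' P P' : Scheme.{u}} (p : P ⟶ X) (q : P ⟶ Y) (K : P.Modules)
    (hK : Coh.IsQCoh K) (f : X' ⟶ X) [IsAffineHom f] (p' : P' ⟶ X') (q' : P' ⟶ Y) (g : P' ⟶ P)
    (h : IsPullback p' g f p) (hq : g ≫ q = q') :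
    Nonempty ((QCohCat.isQCoh X').ι ⋙ Coh.push f ⋙ FM p q K ≅
      (QCohCat.isQCoh X').ι ⋙ FM p' q' ((Scheme.Modules.pullback g).obj K)) := by
  have hg : IsAffineHom g := MorphismProperty.of_isPullback h ‹_›
  let e1 : (QCohCat.isQCoh X').ι ⋙ Coh.push f ⋙ FM p q K ≅
      ((QCohCat.isQCoh X').ι ⋙ Scheme.Modules.pullback p' ⋙ Scheme.Modules.pushforward g) ⋙
        (DCoh.tensorRightMod K ⋙ Coh.push q) :=
    Functor.isoWhiskerRight (bcAffIso f p p' g h) (DCoh.tensorRightMod K ⋙ Coh.push q)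
  let e2 : ((QCohCat.isQCoh X').ι ⋙ Scheme.Modules.pullback p' ⋙ Scheme.Modules.pushforward g) ⋙
        (DCoh.tensorRightMod K ⋙ Coh.push q) ≅
      (pullQ p' ⋙ (QCohCat.isQCoh P').ι ⋙
        DCoh.tensorRightMod ((Scheme.Modules.pullback g).obj K) ⋙
          Scheme.Modules.pushforward g) ⋙ Coh.push q :=
    Functor.isoWhiskerRight (Functor.isoWhiskerLeft (pullQ p') (projAffIso g K hK)) (Coh.push q)
  let e3 : (pullQ p' ⋙ (QCohCat.isQCoh P').ι ⋙
        DCoh.tensorRightMod ((Scheme.Modules.pullback g).obj K) ⋙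
          Scheme.Modules.pushforward g) ⋙ Coh.push q ≅
      (QCohCat.isQCoh X').ι ⋙ FM p' q' ((Scheme.Modules.pullback g).obj K) :=
    Functor.isoWhiskerLeft (pullQ p' ⋙ (QCohCat.isQCoh P').ι ⋙
        DCoh.tensorRightMod ((Scheme.Modules.pullback g).obj K)) (pushIso g q q' hq)
  exact ⟨e1 ≪≫ e2 ≪≫ e3⟩

/-- Postcomposition with a pullback, affine case. -/
theorem nonempty_FM_pull {X Y Y' P P' : Scheme.{u}} (p : P ⟶ X) (q : P ⟶ Y) (K : P.Modules)
    (hK : Coh.IsQCoh K) [IsAffineHom q] (g : Y' ⟶ Y) (p' : P' ⟶ X) (q' : P' ⟶ Y') (h : P' ⟶ P)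
    (sq : IsPullback h q' q g) (hp : h ≫ p = p') :
    Nonempty (((QCohCat.isQCoh X).ι ⋙ FM p q K) ⋙ Scheme.Modules.pullback g ≅
      (QCohCat.isQCoh X).ι ⋙ FM p' q' ((Scheme.Modules.pullback h).obj K)) := by
  let e1 : ((QCohCat.isQCoh X).ι ⋙ FM p q K) ⋙ Scheme.Modules.pullback g ≅
      (pullQ p ⋙ tensQ K hK) ⋙ ((QCohCat.isQCoh P).ι ⋙ Scheme.Modules.pullback h ⋙
        Scheme.Modules.pushforward q') :=
    Functor.isoWhiskerLeft (pullQ p ⋙ tensQ K hK) (bcAffIso q g h q' sq)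
  let e2 : (pullQ p ⋙ tensQ K hK) ⋙ ((QCohCat.isQCoh P).ι ⋙ Scheme.Modules.pullback h ⋙
        Scheme.Modules.pushforward q') ≅
      ((QCohCat.isQCoh X).ι ⋙ Scheme.Modules.pullback p) ⋙
        (Scheme.Modules.pullback h ⋙
          DCoh.tensorRightMod ((Scheme.Modules.pullback h).obj K)) ⋙
          Scheme.Modules.pushforward q' :=
    Functor.isoWhiskerLeft ((QCohCat.isQCoh X).ι ⋙ Scheme.Modules.pullback p)
      (Functor.isoWhiskerRight (muIsoR h K) (Scheme.Modules.pushforward q'))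
  let e3 : ((QCohCat.isQCoh X).ι ⋙ Scheme.Modules.pullback p) ⋙
        (Scheme.Modules.pullback h ⋙
          DCoh.tensorRightMod ((Scheme.Modules.pullback h).obj K)) ⋙
          Scheme.Modules.pushforward q' ≅
      (QCohCat.isQCoh X).ι ⋙ FM p' q' ((Scheme.Modules.pullback h).obj K) :=
    Functor.isoWhiskerLeft (QCohCat.isQCoh X).ι
      (Functor.isoWhiskerRight (pullIso h p p' hp)
        (DCoh.tensorRightMod ((Scheme.Modules.pullback h).obj K) ⋙
          Scheme.Modules.pushforward q'))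
  exact ⟨e1 ≪≫ e2 ≪≫ e3⟩

end K355
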