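import Mathlib.CategoryTheory.Presentable.Dense
import Mathlib.CategoryTheory.Functor.KanExtension.Pointwise
import Mathlib.CategoryTheory.Comma.Final
import Mathlib.CategoryTheory.Preadditive.AdditiveFunctor

/-!
# Extending functors along the inclusion of finitely presentable objects

`P` is a class of finitely presentable objects of `C` such that every object of `C` is a small filtered colimit of objects
of `P` (`K355.IsGen`).  A functor on `P` extends essentially uniquely to a functor on `C` which preserves filtered colimits.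
-/

set_option autoImplicit false
universe v u v' u'
open CategoryTheory CategoryTheory.Limits Functor

namespace K355

variable {C : Type u} [Category.{v} C]

/-- `P` consists of finitely presentable objects, and every object of `C` is a small filtered colimit of objects of `P`. -/
structure IsGen (P : ObjectProperty C) : Prop where
  le : P ≤ ObjectProperty.isFinitelyPresentable.{v} C
  exists_pres : ∀ X : C, ∃ (J : Type v) (_ : SmallCategory J) (_ : IsFiltered J),
    Nonempty (P.ColimitOfShape J X)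

variable {P : ObjectProperty C} (hP : IsGen P)

include hP in
theorem IsGen.final {J : Type v} [SmallCategory J] [IsFiltered J] {X : C}
    (p : P.ColimitOfShape J X) : p.toCostructuredArrow.Final := by
  rw [Functor.final_iff_of_isFiltered]
  refine ⟨fun f ↦ ?_, fun {f j} g₁ g₂ ↦ ?_⟩
  · have : IsFinitelyPresentable.{v} f.left.obj := hP.le _ f.left.property
    let t : f.left.obj ⟶ X := f.hom
    obtain ⟨j, g, hg⟩ := IsFinitelyPresentable.exists_hom_of_isColimit p.isColimit t
    exact ⟨j, ⟨CostructuredArrow.homMk (ObjectProperty.homMk g) hg⟩⟩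
  · have : IsFinitelyPresentable.{v} f.left.obj := hP.le _ f.left.property
    let t₁ : f.left.obj ⟶ p.diag.obj j := g₁.left.hom
    let t₂ : f.left.obj ⟶ p.diag.obj j := g₂.left.hom
    obtain ⟨k, a, b, h⟩ := IsFinitelyPresentable.exists_eq_of_isColimit p.isColimit
      t₁ t₂ ((CostructuredArrow.w g₁).trans (CostructuredArrow.w g₂).symm)
    refine ⟨IsFiltered.coeq a b, a ≫ IsFiltered.coeqHom a b, ?_⟩
    have h2 : t₁ ≫ p.diag.map (a ≫ IsFiltered.coeqHom a b) =
        t₂ ≫ p.diag.map (a ≫ IsFiltered.coeqHom a b) := by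
      conv_rhs => rw [IsFiltered.coeq_condition]
      rw [p.diag.map_comp, p.diag.map_comp, ← Category.assoc, ← Category.assoc, h]
    refine CostructuredArrow.hom_ext _ _ (ObjectProperty.hom_ext _ ?_)
    exact h2

section

variable {B : Type u'} [Category.{v'} B]

include hP in
/-- A functor preserving filtered colimits is the pointwise left Kan extension of its restriction. -/
theorem IsGen.isPointwise (G : C ⥤ B) [PreservesFilteredColimitsOfSize.{v, v} G] :
    Nonempty (LeftExtension.mk G (𝟙 (P.ι ⋙ G))).IsPointwiseLeftKanExtension := by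
  have key : ∀ X : C, Nonempty ((LeftExtension.mk G
      (𝟙 (P.ι ⋙ G))).IsPointwiseLeftKanExtensionAt X) := by
    intro X
    obtain ⟨J, _, _, ⟨p⟩⟩ := hP.exists_pres X
    have := hP.final p
    refine ⟨(Functor.Final.isColimitWhiskerEquiv (F := p.toCostructuredArrow) _).1 ?_⟩
    refine IsColimit.ofIsoColimit (isColimitOfPreserves G p.isColimit)
      (Cocone.ext (Iso.refl _) fun j => ?_)
    change G.map (p.ι.app j) ≫ 𝟙 _ = 𝟙 _ ≫ G.map (p.ι.app j)
    rw [Category.comp_id, Category.id_comp]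
  exact ⟨fun X => (key X).some⟩

include hP in
theorem IsGen.exists_iso (F₁ F₂ : C ⥤ B) [PreservesFilteredColimitsOfSize.{v, v} F₁]
    [PreservesFilteredColimitsOfSize.{v, v} F₂] (e : P.ι ⋙ F₁ ≅ P.ι ⋙ F₂) :
    ∃ e' : F₁ ≅ F₂, Functor.isoWhiskerLeft P.ι e' = e := by
  obtain ⟨h₁⟩ := hP.isPointwise F₁
  obtain ⟨h₂⟩ := hP.isPointwise F₂
  have i₁ : F₁.IsLeftKanExtension (𝟙 (P.ι ⋙ F₁)) := h₁.isLeftKanExtension
  have i₂ : F₂.IsLeftKanExtension (𝟙 (P.ι ⋙ F₂)) := h₂.isLeftKanExtension
  let a : F₁ ⟶ F₂ := F₁.descOfIsLeftKanExtension (𝟙 (P.ι ⋙ F₁)) F₂ e.hom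
  let b : F₂ ⟶ F₁ := F₂.descOfIsLeftKanExtension (𝟙 (P.ι ⋙ F₂)) F₁ e.inv
  have ha : Functor.whiskerLeft P.ι a = e.hom := by
    have := F₁.descOfIsLeftKanExtension_fac (𝟙 (P.ι ⋙ F₁)) F₂ e.hom
    rwa [Category.id_comp] at this
  have hb : Functor.whiskerLeft P.ι b = e.inv := by
    have := F₂.descOfIsLeftKanExtension_fac (𝟙 (P.ι ⋙ F₂)) F₁ e.inv
    rwa [Category.id_comp] at this
  refine ⟨⟨a, b, ?_, ?_⟩, ?_⟩
  · refine F₁.hom_ext_of_isLeftKanExtension (𝟙 (P.ι ⋙ F₁)) _ _ ?_
    rw [Category.id_comp, Category.id_comp, Functor.whiskerLeft_comp, ha, hb, e.hom_inv_id]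
    rfl
  · refine F₂.hom_ext_of_isLeftKanExtension (𝟙 (P.ι ⋙ F₂)) _ _ ?_
    rw [Category.id_comp, Category.id_comp, Functor.whiskerLeft_comp, ha, hb, e.inv_hom_id]
    rfl
  · ext1
    exact ha

include hP in
theorem IsGen.hom_ext {G : C ⥤ B} [PreservesFilteredColimitsOfSize.{v, v} G] {X : C} {Z : B}
    {a b : G.obj X ⟶ Z} (h : ∀ (Y : C) (_ : P Y) (f : Y ⟶ X), G.map f ≫ a = G.map f ≫ b) :
    a = b := by
  obtain ⟨J, _, _, ⟨p⟩⟩ := hP.exists_pres X
  exact (isColimitOfPreserves G p.isColimit).hom_ext fun j => h _ (p.prop_diag_obj j) (p.ι.app j)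

include hP in
/-- The existence of the extension. -/
theorem IsGen.exists_extension [HasFilteredColimitsOfSize.{v, v} B] (F : P.FullSubcategory ⥤ B) :
    ∃ F' : C ⥤ B, PreservesFilteredColimitsOfSize.{v, v} F' ∧ Nonempty (P.ι ⋙ F' ≅ F) := by
  have hpt : P.ι.HasPointwiseLeftKanExtension F := by
    intro X
    obtain ⟨J, _, _, ⟨p⟩⟩ := hP.exists_pres X
    have := hP.final p
    have h1 : HasColimit (p.toCostructuredArrow ⋙ CostructuredArrow.proj P.ι X ⋙ F) := by
      have : HasColimitsOfShape J B := HasFilteredColimitsOfSize.HasColimitsOfShape J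
      infer_instance
    exact Functor.Final.hasColimit_of_comp p.toCostructuredArrow
  let F' := P.ι.pointwiseLeftKanExtension F
  let u : F ⟶ P.ι ⋙ F' := P.ι.pointwiseLeftKanExtensionUnit F
  have hF' : (LeftExtension.mk F' u).IsPointwiseLeftKanExtension :=
    P.ι.pointwiseLeftKanExtensionIsPointwiseLeftKanExtension F
  have hu : ∀ Y, IsIso (u.app Y) := fun Y => (hF' (P.ι.obj Y)).isIso_hom_app
  have huI : IsIso u := NatIso.isIso_of_isIso_app u
  have hext : ∀ {X : C} {Z : B} {a b : F'.obj X ⟶ Z},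
      (∀ (Y : P.FullSubcategory) (f : Y.obj ⟶ X), F'.map f ≫ a = F'.map f ≫ b) → a = b := by
    intro X Z a b hab
    refine (hF' X).hom_ext' fun Y φ => ?_
    have := hab Y φ
    exact congrArg (fun t => u.app Y ≫ t) this
  have hdesc : ∀ {X : C} {Z : B} (φ : ∀ (Y : P.FullSubcategory) (_ : Y.obj ⟶ X), F'.obj Y.obj ⟶ Z)
      (_ : ∀ {Y Y' : P.FullSubcategory} (g : Y ⟶ Y') (f : Y'.obj ⟶ X),
        F'.map g.hom ≫ φ Y' f = φ Y (g.hom ≫ f)),
      ∃ d : F'.obj X ⟶ Z, ∀ (Y : P.FullSubcategory) (f : Y.obj ⟶ X), F'.map f ≫ d = φ Y f := by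
    intro X Z φ hφ
    let s : Cocone (CostructuredArrow.proj P.ι X ⋙ F) :=
      { pt := Z
        ι := { app := fun f => u.app f.left ≫ φ f.left f.hom
               naturality := fun f g a => by
                change F.map a.left ≫ u.app g.left ≫ φ g.left g.hom =
                  (u.app f.left ≫ φ f.left f.hom) ≫ 𝟙 _
                rw [Category.comp_id, ← Category.assoc, u.naturality, Category.assoc]
                congr 1
                refine (hφ a.left g.hom).trans ?_
                congr 1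
                exact CostructuredArrow.w a } }
    have hc : IsColimit ((LeftExtension.mk F' u).coconeAt X) := hF' X
    let d : F'.obj X ⟶ Z := hc.desc s
    refine ⟨d, fun Y f => ?_⟩
    have h1 := hc.fac s (CostructuredArrow.mk f)
    have h2 : (u.app Y ≫ F'.map f) ≫ d = u.app Y ≫ φ Y f := h1
    rw [Category.assoc] at h2
    exact (cancel_epi (u.app Y)).mp h2
  refine ⟨F', ⟨fun J _ _ => ⟨fun {D} => ⟨fun {c} hc => ⟨?_⟩⟩⟩⟩, ⟨(asIso u).symm⟩⟩
  have hfac : ∀ (Y : P.FullSubcategory) (f : Y.obj ⟶ c.pt), ∃ (j : J) (g : Y.obj ⟶ D.obj j),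
      g ≫ c.ι.app j = f := by
    intro Y f
    have : IsFinitelyPresentable.{v} Y.obj := hP.le _ Y.property
    exact IsFinitelyPresentable.exists_hom_of_isColimit hc f
  have huniq : ∀ (s : Cocone (D ⋙ F')) (Y : P.FullSubcategory) (j j' : J) (g : Y.obj ⟶ D.obj j)
      (g' : Y.obj ⟶ D.obj j') (_ : g ≫ c.ι.app j = g' ≫ c.ι.app j'),
      F'.map g ≫ s.ι.app j = F'.map g' ≫ s.ι.app j' := by
    intro s Y j j' g g' hgg
    have : IsFinitelyPresentable.{v} Y.obj := hP.le _ Y.property
    obtain ⟨k, a, b, h⟩ := IsFinitelyPresentable.exists_eq_of_isColimit hc g g' hgg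
    have h1 : F'.map (D.map a) ≫ s.ι.app k = s.ι.app j := s.w a
    have h2 : F'.map (D.map b) ≫ s.ι.app k = s.ι.app j' := s.w b
    rw [← h1, ← h2, ← Category.assoc, ← Category.assoc, ← F'.map_comp, ← F'.map_comp, h]
  have key : ∀ s : Cocone (D ⋙ F'), ∃ d : F'.obj c.pt ⟶ s.pt, ∀ j,
      F'.map (c.ι.app j) ≫ d = s.ι.app j := by
    intro s
    choose jj gg hgg using hfac
    obtain ⟨d, hd⟩ := hdesc (X := c.pt) (Z := s.pt)
      (fun Y f => F'.map (gg Y f) ≫ s.ι.app (jj Y f)) (by
        intro Y Y' g f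
        rw [← Category.assoc, ← F'.map_comp]
        refine huniq s Y _ _ _ _ ?_
        rw [Category.assoc, hgg, hgg])
    refine ⟨d, fun j => hext fun Y f => ?_⟩
    rw [← Category.assoc, ← F'.map_comp, hd]
    exact huniq s Y _ _ _ _ (hgg _ _)
  exact
    { desc := fun s => (key s).choose
      fac := fun s j => (key s).choose_spec j
      uniq := fun s m hm => hext fun Y f => by
        obtain ⟨j, g, rfl⟩ := hfac Y f
        have h1 : F'.map (c.ι.app j) ≫ m = s.ι.app j := hm j
        rw [F'.map_comp, Category.assoc, Category.assoc, h1, (key s).choose_spec j] }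

/-- An extension of an additive functor preserving filtered colimits is additive. -/
theorem IsGen.additive [Preadditive C] [Preadditive B] (G : C ⥤ B)
    [PreservesFilteredColimitsOfSize.{v, v} G] (hP : IsGen P) [(P.ι ⋙ G).Additive] :
    G.Additive where
  map_add {M N f g} := by
    refine hP.hom_ext (G := G) fun Y hY t => ?_
    obtain ⟨J, _, _, ⟨p⟩⟩ := hP.exists_pres N
    have : IsFinitelyPresentable.{v} Y := hP.le _ hY
    obtain ⟨j, a, ha⟩ := IsFinitelyPresentable.exists_hom_of_isColimit p.isColimit (t ≫ f)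
    obtain ⟨j', b, hb⟩ := IsFinitelyPresentable.exists_hom_of_isColimit p.isColimit (t ≫ g)
    let k := IsFiltered.max j j'
    let a' : (⟨Y, hY⟩ : P.FullSubcategory) ⟶ ⟨p.diag.obj k, p.prop_diag_obj k⟩ :=
      ObjectProperty.homMk (a ≫ p.diag.map (IsFiltered.leftToMax j j'))
    let b' : (⟨Y, hY⟩ : P.FullSubcategory) ⟶ ⟨p.diag.obj k, p.prop_diag_obj k⟩ :=
      ObjectProperty.homMk (b ≫ p.diag.map (IsFiltered.rightToMax j j'))
    have ha' : a'.hom ≫ p.ι.app k = t ≫ f := by
      change (a ≫ p.diag.map (IsFiltered.leftToMax j j')) ≫ p.ι.app k = _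
      have := p.cocone.w (IsFiltered.leftToMax j j')
      rw [Category.assoc]
      exact (congrArg (a ≫ ·) this).trans ha
    have hb' : b'.hom ≫ p.ι.app k = t ≫ g := by
      change (b ≫ p.diag.map (IsFiltered.rightToMax j j')) ≫ p.ι.app k = _
      have := p.cocone.w (IsFiltered.rightToMax j j')
      rw [Category.assoc]
      exact (congrArg (b ≫ ·) this).trans hb
    have h1 : (a' + b').hom ≫ p.ι.app k = t ≫ (f + g) := by
      change (a'.hom + b'.hom) ≫ p.ι.app k = t ≫ (f + g)
      rw [Preadditive.add_comp, Preadditive.comp_add, ha', hb']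
    have h2 : G.map (a' + b').hom = G.map a'.hom + G.map b'.hom := (P.ι ⋙ G).map_add
    rw [← G.map_comp, ← h1, G.map_comp, h2, Preadditive.comp_add, Preadditive.add_comp,
      ← G.map_comp, ← G.map_comp, ha', hb', G.map_comp, G.map_comp]

end

end K355
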