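import Mathlib.CategoryTheory.Abelian.Subcategory
import Mathlib.CategoryTheory.Preadditive.LeftExact
import Mathlib.CategoryTheory.Preadditive.Biproducts
import Mathlib.CategoryTheory.Abelian.GrothendieckAxioms.Basic
import Mathlib.CategoryTheory.Limits.Preserves.Grothendieck

/-!
# Exactness of inclusions of abelian subcategories, and filtered colimits in them
-/

set_option autoImplicit false
universe w w' v u v' u'
open CategoryTheory CategoryTheory.Limits

namespace K355

variable {C : Type u} [Category.{v} C] [Abelian C] (P Q : ObjectProperty C)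

theorem preservesFiniteLimits_ι [P.IsClosedUnderKernels] [P.IsClosedUnderFiniteProducts]
    [P.IsClosedUnderCokernels] [P.ContainsZero] : PreservesFiniteLimits P.ι := by
  have := fun {X Y : P.FullSubcategory} (f : X ⟶ Y) => P.preservesKernels_ι f
  exact Functor.preservesFiniteLimits_of_preservesKernels _

theorem preservesFiniteColimits_ι [P.IsClosedUnderKernels] [P.IsClosedUnderFiniteProducts]
    [P.IsClosedUnderCokernels] [P.ContainsZero] : PreservesFiniteColimits P.ι := by
  have := fun {X Y : P.FullSubcategory} (f : X ⟶ Y) => P.preservesCokernels_ι f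
  exact Functor.preservesFiniteColimits_of_preservesCokernels _

variable {P Q}

theorem preservesFiniteLimits_ιOfLE (h : P ≤ Q) [P.IsClosedUnderKernels]
    [P.IsClosedUnderFiniteProducts]
    [P.IsClosedUnderCokernels] [P.ContainsZero] : PreservesFiniteLimits (ObjectProperty.ιOfLE h) := by
  have := preservesFiniteLimits_ι P
  refine ⟨fun J _ _ => ?_⟩
  have : PreservesLimitsOfShape J (ObjectProperty.ιOfLE h ⋙ Q.ι) :=
    inferInstanceAs (PreservesLimitsOfShape J P.ι)
  exact preservesLimitsOfShape_of_reflects_of_preserves _ Q.ι

theorem preservesFiniteColimits_ιOfLE (h : P ≤ Q) [P.IsClosedUnderKernels]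
    [P.IsClosedUnderFiniteProducts]
    [P.IsClosedUnderCokernels] [P.ContainsZero] : PreservesFiniteColimits (ObjectProperty.ιOfLE h) := by
  have := preservesFiniteColimits_ι P
  refine ⟨fun J _ _ => ?_⟩
  have : PreservesColimitsOfShape J (ObjectProperty.ιOfLE h ⋙ Q.ι) :=
    inferInstanceAs (PreservesColimitsOfShape J P.ι)
  exact preservesColimitsOfShape_of_reflects_of_preserves _ Q.ι

/-- Colimits of shape `J` commute with limits of shape `K` in `A` if they do in `B` and there is a functor `A ⥤ B`
preserving both and reflecting limits of shape `K`. -/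
theorem preservesLimits_colim {A : Type u} [Category.{v} A] {B : Type u'} [Category.{v'} B]
    (G : A ⥤ B) (J : Type w) [Category.{w'} J] (K : Type) [SmallCategory K]
    [HasColimitsOfShape J A] [HasColimitsOfShape J B] [HasLimitsOfShape K A]
    [PreservesColimitsOfShape J G] [PreservesLimitsOfShape K G] [ReflectsLimitsOfShape K G]
    [PreservesLimitsOfShape K (colim : (J ⥤ B) ⥤ B)] :
    PreservesLimitsOfShape K (colim : (J ⥤ A) ⥤ A) := by
  have h1 : PreservesLimitsOfShape K ((Functor.whiskeringRight J A B).obj G) := inferInstance
  have h2 : PreservesLimitsOfShape K ((colim : (J ⥤ A) ⥤ A) ⋙ G) :=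
    preservesLimitsOfShape_of_natIso (preservesColimitNatIso G).symm
  exact preservesLimitsOfShape_of_reflects_of_preserves _ G

end K355
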