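import Groth.Agent.S2128
import Groth.Agent.S2214
import Groth.Agent.S0484
import Groth.Agent.Models2.QCohColim
import Groth.Agent.Models2.FPCoh
import Groth.Agent.CohqA.FinSec
import Groth.Agent.PerfB.ResolQC
import Groth.Agent.PerfA.QCohExt
import Groth.Agent.FunMor.K355.Subcat
import Groth.Agent.FunMor.K355.Ind

/-!
# The category of quasi-coherent modules: generation by modules of finite presentation
-/

set_option autoImplicit false
universe u
open CategoryTheory CategoryTheory.Limits AlgebraicGeometry

namespace K355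

/-- finitely presented quasi-coherent modules -/
abbrev fpQ (X : Scheme.{u}) : ObjectProperty (QCohCat.QCoh X) :=
  fun M => SheafOfModules.IsFinitePresentation M.obj

/-- coherent modules, as a property of quasi-coherent modules -/
abbrev cohQ (X : Scheme.{u}) : ObjectProperty (QCohCat.QCoh X) := fun M => Coh.IsCoh M.obj

theorem isGen_fpQ (X : Scheme.{u}) [CompactSpace X] [QuasiSeparatedSpace X] : IsGen (fpQ X) where
  le F hF := (Groth.Agent.S2214.result X F).2 hF
  exists_pres F := by
    obtain ⟨F, hF⟩ := F
    obtain ⟨I, _, _, D, c, hc, hD, hpt⟩ := Groth.Agent.S2128.result X F hF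
    have hDq : ∀ i, QCohCat.isQCoh X (D.obj i) := fun i =>
      Groth.Agent.Models2.FPCoh.isQCoh_of_isFP (hD i)
    subst hpt
    let D' : I ⥤ QCohCat.QCoh X := (QCohCat.isQCoh X).lift D hDq
    let c' : Cocone D' :=
      { pt := ⟨c.pt, hF⟩
        ι := { app := fun i => ObjectProperty.homMk (c.ι.app i)
               naturality := fun i j f => by
                refine ObjectProperty.hom_ext _ ?_
                exact c.ι.naturality f } }
    have hc' : IsColimit c' := isColimitOfReflects (QCohCat.isQCoh X).ι hc
    exact ⟨I, inferInstance, inferInstance, ⟨{ diag := D', ι := c'.ι, isColimit := hc', prop_diag_obj := hD }⟩⟩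

theorem cohQ_eq (X : Scheme.{u}) [IsLocallyNoetherian X] : cohQ X = fpQ X := by
  funext M
  refine propext ⟨fun h => ?_, fun h => Groth.Agent.Models2.FPCoh.isCoh_of_isFP h⟩
  refine Groth.Agent.CohqA.FinSec.isFP_of_finitePresentation h.1 fun x => ?_
  obtain ⟨U, hU, hx, -⟩ := exists_isAffineOpen_mem_and_subset (U := (⊤ : X.Opens)) (x := x) trivial
  refine ⟨U, hU, hx, ?_⟩
  have : IsNoetherianRing Γ(X, U) := IsLocallyNoetherian.component_noetherian ⟨U, hU⟩
  have := Groth.Agent.CohqA.FinSec.finite_sections hU h.1 h.2
  exact Module.finitePresentation_of_finite _ _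

theorem isGen_cohQ (X : Scheme.{u}) [IsNoetherian X] : IsGen (cohQ X) := by
  rw [cohQ_eq]
  exact isGen_fpQ X

section QC

variable (X : Scheme.{u})

open Groth.Agent.PerfA.QCohSerre Groth.Agent.PerfB.ResolQC

noncomputable abbrev abelianQCoh : Abelian (QCohCat.QCoh X) :=
  inferInstanceAs (Abelian (qcoh X).FullSubcategory)

theorem preservesFiniteLimits_ιQ : PreservesFiniteLimits (QCohCat.isQCoh X).ι :=
  inferInstanceAs (PreservesFiniteLimits (qcoh X).ι)

theorem preservesFiniteColimits_ιQ : PreservesFiniteColimits (QCohCat.isQCoh X).ι :=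
  inferInstanceAs (PreservesFiniteColimits (qcoh X).ι)

theorem hasFilteredColimits_QCoh : HasFilteredColimitsOfSize.{u, u} (QCohCat.QCoh X) :=
  ⟨fun J _ _ => inferInstance⟩

theorem preservesLimits_colim_QCoh (J : Type u) [SmallCategory J] [IsFiltered J] :
    haveI := (hasFilteredColimits_QCoh X).HasColimitsOfShape J
    PreservesLimitsOfShape WalkingParallelPair
      (colim : (J ⥤ QCohCat.QCoh X) ⥤ QCohCat.QCoh X) := by
  have := abelianQCoh X
  have := preservesFiniteLimits_ιQ X
  have h5 : HasExactColimitsOfShape J X.Modules :=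
    (Groth.Agent.S0484.ab5_sheaf X.ringCatSheaf).ofShape J
  exact preservesLimits_colim (QCohCat.isQCoh X).ι J WalkingParallelPair

end QC

end K355
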