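import Groth.Agent.FunMor.K355.FMExactAff
import Groth.Agent.FunMor.K355.QCohGen
import Groth.Agent.Cohder.RDAcyc

/-!
# Exactness of `M ↦ q_* (p^* M ⊗ K)` for `K` flat and acyclic
-/

set_option autoImplicit false
universe u
open CategoryTheory CategoryTheory.Limits AlgebraicGeometry

namespace K355

variable {X Y P : Scheme.{u}} (p : P ⟶ X) (q : P ⟶ Y) (K : P.Modules)

theorem shortExact_FM (hKf : FlatMod.IsFlatOver p K) [HasInjectiveResolutions P.Modules]
    (hKa : ∀ M : X.Modules, Coh.IsQCoh M →
      IsZero ((Coh.Rpush q 1).obj ((DCoh.tensorRightMod K).obj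
        ((Scheme.Modules.pullback p).obj M))))
    (S : ShortComplex X.Modules) (hS : S.ShortExact) (h1 : Coh.IsQCoh S.X₁) :
    (S.map (FM p q K)).ShortExact := by
  have hl := Groth.Agent.Models2.FMExact.preservesFiniteLimits_G p K hKf
  have hS' := hS.map_of_exact (Groth.Agent.Models2.FMExact.G p K)
  exact Groth.Agent.Cohder.RDAcyc.map_shortExact (Coh.push q) hS' (hKa _ h1)

theorem additive_FM : ((QCohCat.isQCoh X).ι ⋙ FM p q K).Additive := by
  have h1 : (Scheme.Modules.pullback p ⋙ DCoh.tensorRightMod K).Additive :=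
    Groth.Agent.Models2.FMExact.additive_G p K
  have h2 : ((Scheme.Modules.pullback p ⋙ DCoh.tensorRightMod K) ⋙
    Scheme.Modules.pushforward q).Additive := inferInstance
  have h3 : ((QCohCat.isQCoh X).ι ⋙ ((Scheme.Modules.pullback p ⋙ DCoh.tensorRightMod K) ⋙
    Scheme.Modules.pushforward q)).Additive := inferInstance
  exact h3

theorem exact_FM (hKf : FlatMod.IsFlatOver p K) [HasInjectiveResolutions P.Modules]
    (hKa : ∀ M : X.Modules, Coh.IsQCoh M →
      IsZero ((Coh.Rpush q 1).obj ((DCoh.tensorRightMod K).obj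
        ((Scheme.Modules.pullback p).obj M)))) :
    PreservesFiniteLimits ((QCohCat.isQCoh X).ι ⋙ FM p q K) ∧
      PreservesFiniteColimits ((QCohCat.isQCoh X).ι ⋙ FM p q K) := by
  let := abelianQCoh X
  have := preservesFiniteLimits_ιQ X
  have := preservesFiniteColimits_ιQ X
  have := additive_FM p q K
  refine (((QCohCat.isQCoh X).ι ⋙ FM p q K).exact_tfae.out 0 3).1 fun S hS => ?_
  exact shortExact_FM p q K hKf hKa (S.map (QCohCat.isQCoh X).ι) (hS.map_of_exact _) S.X₁.property

end K355
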