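import Mathlib.Algebra.Category.ModuleCat.Abelian
import Mathlib.CategoryTheory.ObjectProperty.FullSubcategory
import Mathlib.CategoryTheory.Preadditive.AdditiveFunctor
import Mathlib.CategoryTheory.Preadditive.LeftExact
import Mathlib.CategoryTheory.Limits.Preserves.Finite
import Mathlib.CategoryTheory.Limits.Preserves.Shapes.Products
import Mathlib.CategoryTheory.Limits.Shapes.Kernels
import Mathlib.CategoryTheory.Limits.Preserves.Shapes.Kernels
import Mathlib.Algebra.Exact.Basic

/-!
# Right exact functors on categories of modules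

For a full subcategory `P` of `A`-modules containing `A`, a functor `F` to a preadditive category and a module `M` with a
presentation `A^(J) → A^(I) → M → 0` preserved by `F`, we show that `m ↦ F(A → M, 1 ↦ m)` is the
universal `A`-linear map from `M` to a group `Hom(F A, Z)` (`K355.existsUnique_desc`).
-/

set_option autoImplicit false
universe u v' u' w
open CategoryTheory CategoryTheory.Limits

namespace K355

noncomputable section

variable {A : Type u} [CommRing A] {P : ObjectProperty (ModuleCat.{u} A)}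

/-- The free module of rank one as an object of the full subcategory. -/
abbrev oA (hA : P (ModuleCat.of A A)) : P.FullSubcategory := ⟨ModuleCat.of A A, hA⟩

/-- The morphism `A → M` attached to an element of `M`. -/
def pt (hA : P (ModuleCat.of A A)) {M : P.FullSubcategory} (x : M.obj) : oA hA ⟶ M :=
  ObjectProperty.homMk (ModuleCat.ofHom (LinearMap.toSpanSingleton A M.obj x))

/-- Multiplication by `a` on the free module of rank one. -/
def mulA (hA : P (ModuleCat.of A A)) (a : A) : oA hA ⟶ oA hA :=
  ObjectProperty.homMk (ModuleCat.ofHom (LinearMap.lsmul A A a))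

variable (hA : P (ModuleCat.of A A))

theorem pt_add {M : P.FullSubcategory} (x y : M.obj) : pt hA (x + y) = pt hA x + pt hA y := by
  refine ObjectProperty.hom_ext _ (ModuleCat.hom_ext (LinearMap.ext_ring ?_))
  change (1 : A) • (x + y) = (1 : A) • x + (1 : A) • y
  rw [smul_add]

theorem pt_smul {M : P.FullSubcategory} (a : A) (x : M.obj) :
    pt hA (a • x) = mulA hA a ≫ pt hA x := by
  refine ObjectProperty.hom_ext _ (ModuleCat.hom_ext (LinearMap.ext_ring ?_))
  change (1 : A) • (a • x) = (a • (1 : A)) • x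
  rw [one_smul, smul_eq_mul, mul_one]

theorem pt_comp {M N : P.FullSubcategory} (x : M.obj) (f : M ⟶ N) :
    pt hA x ≫ f = pt hA (f.hom x) := by
  refine ObjectProperty.hom_ext _ (ModuleCat.hom_ext (LinearMap.ext_ring ?_))
  change f.hom ((1 : A) • x) = (1 : A) • f.hom x
  rw [one_smul, one_smul]

theorem pt_zero {M : P.FullSubcategory} : pt hA (0 : M.obj) = 0 := by
  refine ObjectProperty.hom_ext _ (ModuleCat.hom_ext (LinearMap.ext_ring ?_))
  change (1 : A) • (0 : M.obj) = 0
  rw [smul_zero]

theorem pt_one : pt hA (M := oA hA) (1 : A) = 𝟙 _ := by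
  refine ObjectProperty.hom_ext _ (ModuleCat.hom_ext (LinearMap.ext_ring ?_))
  change (1 : A) • (1 : A) = 1
  rw [smul_eq_mul, mul_one]

theorem mulA_eq_pt (a : A) : mulA hA a = pt hA (M := oA hA) a := by
  refine ObjectProperty.hom_ext _ (ModuleCat.hom_ext (LinearMap.ext_ring ?_))
  change a • (1 : A) = (1 : A) • a
  rw [smul_eq_mul, mul_one, one_smul]

/-- `A^(I)` is the coproduct of copies of `A`. -/
def cofanFree {I : Type u} (hI : P (ModuleCat.of A (I →₀ A))) : Cofan (fun _ : I => oA hA) :=
  Cofan.mk (⟨ModuleCat.of A (I →₀ A), hI⟩ : P.FullSubcategory)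
    (fun i => pt hA (Finsupp.single i (1 : A) : (I →₀ A)))

def isColimitCofanFree {I : Type u} (hI : P (ModuleCat.of A (I →₀ A))) :
    IsColimit (cofanFree hA hI) :=
  Cofan.IsColimit.mk _ (fun s => ObjectProperty.homMk (ModuleCat.ofHom
      (Finsupp.linearCombination A (fun i => (s.inj i).hom (1 : A)))))
    (fun s i => by
      refine ObjectProperty.hom_ext _ (ModuleCat.hom_ext (LinearMap.ext_ring ?_))
      change Finsupp.linearCombination A (fun i => (s.inj i).hom (1 : A))
        ((1 : A) • (Finsupp.single i (1 : A))) = (s.inj i).hom (1 : A)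
      rw [one_smul, Finsupp.linearCombination_single, one_smul])
    (fun s m hm => by
      refine ObjectProperty.hom_ext _ (ModuleCat.hom_ext (Finsupp.lhom_ext' fun i =>
        LinearMap.ext_ring ?_))
      change m.hom (Finsupp.single i (1 : A)) =
        Finsupp.linearCombination A (fun i => (s.inj i).hom (1 : A)) (Finsupp.single i (1 : A))
      rw [Finsupp.linearCombination_single, one_smul, ← hm i]
      change m.hom (Finsupp.single i (1 : A)) = m.hom ((1 : A) • Finsupp.single i (1 : A))
      rw [one_smul])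

/-- The cokernel of a linear map in the full subcategory `P`. -/
theorem comp_eq_zero_of_exact {K L M : P.FullSubcategory} (q : K ⟶ L) (p : L ⟶ M)
    (h : Function.Exact q.hom p.hom) : q ≫ p = 0 :=
  ObjectProperty.hom_ext _ (ModuleCat.hom_ext (LinearMap.ext fun x => (h (q.hom x)).mpr ⟨x, rfl⟩))

theorem ker_le_of_exact {K L M W : P.FullSubcategory} (q : K ⟶ L) (p : L ⟶ M)
    (h : Function.Exact q.hom p.hom) (k : L ⟶ W) (hk : q ≫ k = 0) :
    LinearMap.ker p.hom.hom ≤ LinearMap.ker k.hom.hom := by
  intro y hy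
  obtain ⟨z, rfl⟩ := (h y).mp hy
  exact congrArg (fun g => g.hom.hom z) hk

/-- The map out of a quotient. -/
def descOfExact {K L M W : P.FullSubcategory} (q : K ⟶ L) (p : L ⟶ M)
    (h : Function.Exact q.hom p.hom) (hp : Function.Surjective p.hom) (k : L ⟶ W)
    (hk : q ≫ k = 0) : M.obj →ₗ[A] W.obj :=
  (Submodule.liftQ (LinearMap.ker p.hom.hom) k.hom.hom (ker_le_of_exact q p h k hk)).comp
      (p.hom.hom.quotKerEquivOfSurjective hp).symm.toLinearMap

theorem descOfExact_apply {K L M W : P.FullSubcategory} (q : K ⟶ L) (p : L ⟶ M)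
    (h : Function.Exact q.hom p.hom) (hp : Function.Surjective p.hom) (k : L ⟶ W)
    (hk : q ≫ k = 0) (x : L.obj) : descOfExact q p h hp k hk (p.hom.hom x) = k.hom.hom x := by
  have h1 : (p.hom.hom.quotKerEquivOfSurjective hp).symm (p.hom.hom x) =
      Submodule.Quotient.mk x := by
    rw [LinearEquiv.symm_apply_eq]; rfl
  change (Submodule.liftQ (LinearMap.ker p.hom.hom) k.hom.hom (ker_le_of_exact q p h k hk))
    ((p.hom.hom.quotKerEquivOfSurjective hp).symm (p.hom.hom x)) = k.hom.hom x
  rw [h1]; rfl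

def isColimitOfExact {K L M : P.FullSubcategory} (q : K ⟶ L) (p : L ⟶ M)
    (h : Function.Exact q.hom p.hom) (hp : Function.Surjective p.hom) :
    IsColimit (CokernelCofork.ofπ (f := q) p (comp_eq_zero_of_exact q p h)) :=
  CokernelCofork.IsColimit.ofπ _ _
    (fun {W} k hk => ObjectProperty.homMk (ModuleCat.ofHom (descOfExact q p h hp k hk)))
    (fun {W} k hk => ObjectProperty.hom_ext _ (ModuleCat.hom_ext (LinearMap.ext fun x =>
      descOfExact_apply q p h hp k hk x)))
    (fun {W} k hk m hm => by
      refine ObjectProperty.hom_ext _ (ModuleCat.hom_ext (LinearMap.ext fun x => ?_))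
      obtain ⟨y, rfl⟩ := hp x
      refine Eq.trans ?_ (descOfExact_apply q p h hp k hk y).symm
      rw [← hm]; rfl)

variable {B : Type u'} [Category.{v'} B] [Preadditive B] (F : P.FullSubcategory ⥤ B)
  [F.Additive]

/-- The universal property of `F M`: it represents the `A`-linear maps `M → Hom(F A, Z)`. -/
theorem existsUnique_desc {I J : Type u} (hI : P (ModuleCat.of A (I →₀ A)))
    (hJ : P (ModuleCat.of A (J →₀ A))) [PreservesColimitsOfShape (Discrete I) F]
    [PreservesColimitsOfShape (Discrete J) F] [PreservesColimitsOfShape WalkingParallelPair F]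
    {M : P.FullSubcategory} (p : (I →₀ A) →ₗ[A] M.obj) (hp : Function.Surjective p)
    (q : (J →₀ A) →ₗ[A] (I →₀ A)) (hpq : Function.Exact q p)
    {Z : B} (h : M.obj → (F.obj (oA hA) ⟶ Z)) (hadd : ∀ x y, h (x + y) = h x + h y)
    (hsmul : ∀ (a : A) x, h (a • x) = F.map (mulA hA a) ≫ h x) :
    ∃! g : F.obj M ⟶ Z, ∀ x : M.obj, F.map (pt hA x) ≫ g = h x := by
  let L : P.FullSubcategory := ⟨ModuleCat.of A (I →₀ A), hI⟩
  let K : P.FullSubcategory := ⟨ModuleCat.of A (J →₀ A), hJ⟩
  let p' : L ⟶ M := ObjectProperty.homMk (ModuleCat.ofHom p)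
  let q' : K ⟶ L := ObjectProperty.homMk (ModuleCat.ofHom q)
  have hLc : IsColimit (Cofan.mk (F.obj L) (fun i => F.map ((cofanFree hA hI).inj i))) :=
    isColimitCofanMkObjOfIsColimit F _ _ (isColimitCofanFree hA hI)
  have hKc : IsColimit (Cofan.mk (F.obj K) (fun i => F.map ((cofanFree hA hJ).inj i))) :=
    isColimitCofanMkObjOfIsColimit F _ _ (isColimitCofanFree hA hJ)
  have hMc : IsColimit (CokernelCofork.ofπ (f := F.map q') (F.map p') (by
      rw [← F.map_comp, comp_eq_zero_of_exact q' p' hpq, F.map_zero])) :=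
    isColimitCoforkMapOfIsColimit' F _ (isColimitOfExact q' p' hpq hp)
  -- the additive map
  let hh : M.obj →+ (F.obj (oA hA) ⟶ Z) := AddMonoidHom.mk' h hadd
  let gL : F.obj L ⟶ Z := Cofan.IsColimit.desc hLc (fun i => h (p (Finsupp.single i 1)))
  have hgL : ∀ i, F.map (pt hA (M := L) (Finsupp.single i (1 : A) : (I →₀ A))) ≫ gL =
      h (p (Finsupp.single i 1)) := fun i => Cofan.IsColimit.fac hLc _ i
  have hgL' : ∀ x : (I →₀ A), F.map (pt hA (M := L) x) ≫ gL = h (p x) := by
    intro x
    induction x using Finsupp.induction_linear with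
    | zero =>
      have h1 : pt hA (M := L) (0 : I →₀ A) = 0 := pt_zero hA
      rw [h1, F.map_zero, zero_comp, map_zero]
      exact (map_zero hh).symm
    | add x y hx hy =>
      have h1 : pt hA (M := L) (x + y : I →₀ A) = pt hA (M := L) x + pt hA (M := L) y := pt_add hA _ _
      rw [h1, F.map_add, Preadditive.add_comp, hx, hy, map_add, hadd]
    | single i a =>
      have h1 : (Finsupp.single i a : I →₀ A) = a • (Finsupp.single i (1 : A) : I →₀ A) := by
        rw [Finsupp.smul_single, smul_eq_mul, mul_one]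
      have h2 : pt hA (M := L) (a • (Finsupp.single i (1 : A) : I →₀ A)) =
          mulA hA a ≫ pt hA (M := L) (Finsupp.single i (1 : A) : I →₀ A) := pt_smul hA _ _
      rw [h1, h2, F.map_comp, Category.assoc, hgL, map_smul, hsmul]
  have hq : F.map q' ≫ gL = 0 := by
    refine Cofan.IsColimit.hom_ext hKc _ _ fun j => ?_
    change F.map (pt hA (M := K) (Finsupp.single j (1 : A) : (J →₀ A))) ≫ F.map q' ≫ gL =
      F.map (pt hA (M := K) (Finsupp.single j (1 : A) : (J →₀ A))) ≫ 0
    rw [← Category.assoc, ← F.map_comp, pt_comp, comp_zero]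
    change F.map (pt hA (M := L) (q (Finsupp.single j (1 : A)))) ≫ gL = 0
    rw [hgL', (hpq _).mpr ⟨_, rfl⟩]
    exact map_zero hh
  obtain ⟨g, hg⟩ := CokernelCofork.IsColimit.desc' hMc gL hq
  have hg' : F.map p' ≫ g = gL := hg
  refine ⟨g, fun x => ?_, fun g' hg'' => ?_⟩
  · obtain ⟨y, rfl⟩ := hp x
    have h1 : pt hA (M := M) (p y) = pt hA (M := L) y ≫ p' := (pt_comp hA (M := L) y p').symm
    rw [h1, F.map_comp, Category.assoc, hg', hgL']
  · refine Cofork.IsColimit.hom_ext hMc ?_
    change F.map p' ≫ g' = F.map p' ≫ g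
    refine Cofan.IsColimit.hom_ext hLc _ _ fun i => ?_
    change F.map (pt hA (M := L) (Finsupp.single i (1 : A) : (I →₀ A))) ≫ F.map p' ≫ g' =
      F.map (pt hA (M := L) (Finsupp.single i (1 : A) : (I →₀ A))) ≫ F.map p' ≫ g
    rw [hg', hgL, ← Category.assoc, ← F.map_comp, pt_comp]
    exact hg'' _

end

end K355
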