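import Groth.Agent.FunMor.K355.FPMod
import Groth.Agent.FunMor.K355.Watts
import Mathlib.CategoryTheory.Limits.Preserves.Shapes.Zero

/-!
# Right exact functors on finitely presented modules
-/

set_option autoImplicit false
universe u v' u' w
open CategoryTheory CategoryTheory.Limits

namespace K355

/-- A functor between additive categories preserving finite colimits is additive. -/
theorem additive_of_preservesFiniteColimits {C : Type*} [Category* C] [Preadditive C]
    [HasFiniteBiproducts C] {D : Type*} [Category* D] [Preadditive D] [HasFiniteBiproducts D]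
    (F : C ⥤ D) [PreservesFiniteColimits F] : F.Additive := by
  have : HasBinaryBiproducts C := HasBinaryBiproducts.of_hasBinaryProducts
  have : F.PreservesZeroMorphisms := inferInstance
  have := preservesBinaryBiproducts_of_preservesBinaryCoproducts F
  exact Functor.additive_of_preservesBinaryBiproducts F

/-- A functor between additive categories preserving finite limits is additive. -/
theorem additive_of_preservesFiniteLimits {C : Type*} [Category* C] [Preadditive C]
    [HasFiniteBiproducts C] {D : Type*} [Category* D] [Preadditive D] [HasFiniteBiproducts D]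
    (F : C ⥤ D) [PreservesFiniteLimits F] : F.Additive := by
  have : HasBinaryBiproducts C := HasBinaryBiproducts.of_hasBinaryProducts
  have : F.PreservesZeroMorphisms := inferInstance
  have := preservesBinaryBiproducts_of_preservesBinaryProducts F
  exact Functor.additive_of_preservesBinaryBiproducts F

variable {A : Type u} [CommRing A] {B : Type u'} [Category.{v'} B] [Preadditive B]
  [HasFiniteBiproducts B]

/-- Presentations of finitely presented modules with index types in `Type u`. -/
theorem exists_presentation (M : ModuleCat.{u} A) [Module.FinitePresentation A M] :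
    ∃ (I J : Type u) (_ : Finite I) (_ : Finite J) (p : (I →₀ A) →ₗ[A] M)
      (q : (J →₀ A) →ₗ[A] (I →₀ A)), Function.Surjective p ∧ Function.Exact q p := by
  obtain ⟨n, m, f, g, hf, hfg⟩ := Module.FinitePresentation.exists_fin' A M
  let e (k : ℕ) : (ULift.{u} (Fin k) →₀ A) ≃ₗ[A] (Fin k → A) :=
    (Finsupp.domLCongr Equiv.ulift).trans (Finsupp.linearEquivFunOnFinite A A (Fin k))
  refine ⟨ULift.{u} (Fin n), ULift.{u} (Fin m), inferInstance, inferInstance,
    f.comp (e n).toLinearMap, ((e n).symm.toLinearMap.comp g).comp (e m).toLinearMap, ?_, ?_⟩
  · exact hf.comp (e n).surjective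
  · intro x
    constructor
    · intro hx
      obtain ⟨z, hz⟩ := (hfg _).mp hx
      refine ⟨(e m).symm z, ?_⟩
      simp [hz]
    · rintro ⟨z, rfl⟩
      simp only [LinearMap.comp_apply, LinearEquiv.coe_coe, LinearEquiv.apply_symm_apply]
      exact (hfg _).mpr ⟨_, rfl⟩

theorem FP_of (M : Type u) [AddCommGroup M] [Module A M] [h : Module.FinitePresentation A M] :
    FP A (ModuleCat.of A M) := h

/-- The universal property of the values of a right exact functor on finitely presented
modules. -/
theorem existsUnique_desc_FP (F : (FP A).FullSubcategory ⥤ B) [PreservesFiniteColimits F]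
    (M : (FP A).FullSubcategory) {Z : B} (h : M.obj → (F.obj (oA (FP_of A)) ⟶ Z))
    (hadd : ∀ x y, h (x + y) = h x + h y)
    (hsmul : ∀ (a : A) x, h (a • x) = F.map (mulA (FP_of A) a) ≫ h x) :
    ∃! g : F.obj M ⟶ Z, ∀ x : M.obj, F.map (pt (FP_of A) x) ≫ g = h x := by
  have := hasFiniteBiproducts_FP A
  have := additive_of_preservesFiniteColimits F
  have hM : Module.FinitePresentation A M.obj := M.property
  obtain ⟨I, J, hI, hJ, p, q, hp, hpq⟩ := exists_presentation M.obj
  have : Fintype I := Fintype.ofFinite I
  have : Fintype J := Fintype.ofFinite J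
  classical
  exact existsUnique_desc (FP_of A) F (FP_of _) (FP_of _) p hp q hpq h hadd hsmul

end K355
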