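import Groth.Agent.FunMor.K355.Ind
import Mathlib.CategoryTheory.Limits.Shapes.Kernels
import Mathlib.CategoryTheory.Limits.Preserves.Shapes.Kernels
import Mathlib.CategoryTheory.Limits.FunctorCategory.Basic
import Mathlib.CategoryTheory.ObjectProperty.Kernels

/-!
# Exactness of extensions of functors
-/

set_option autoImplicit false
set_option linter.unusedSectionVars false
universe v u v' u'
open CategoryTheory CategoryTheory.Limits

namespace K355

section presentation

variable {C : Type u} [Category.{v} C] {P : ObjectProperty C} (hP : IsGen P)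

include hP in
set_option backward.isDefEq.respectTransparency false in
/-- Every morphism is a filtered colimit of morphisms between objects of `P`. -/
theorem IsGen.exists_arrow_presentation {M N : C} (f : M ⟶ N) :
    ∃ (I : Type v) (_ : SmallCategory I) (_ : IsFiltered I) (D₁ D₂ : I ⥤ C) (φ : D₁ ⟶ D₂)
      (c₁ : Cocone D₁) (c₂ : Cocone D₂) (_ : IsColimit c₁) (_ : IsColimit c₂)
      (e₁ : c₁.pt ≅ M) (e₂ : c₂.pt ≅ N),
      (∀ i, P (D₁.obj i)) ∧ (∀ i, P (D₂.obj i)) ∧
      ∀ i, c₁.ι.app i ≫ e₁.hom ≫ f = φ.app i ≫ c₂.ι.app i ≫ e₂.hom := by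
  obtain ⟨J₁, _, _, ⟨p₁⟩⟩ := hP.exists_pres M
  obtain ⟨J₂, _, _, ⟨p₂⟩⟩ := hP.exists_pres N
  have := hP.final p₂
  let L : J₁ ⥤ CostructuredArrow P.ι N := p₁.toCostructuredArrow ⋙ CostructuredArrow.map f
  let R : J₂ ⥤ CostructuredArrow P.ι N := p₂.toCostructuredArrow
  have : IsFiltered (Comma L R) := Comma.isFiltered_of_final L R
  have : (Comma.snd L R).Final := Comma.final_snd L R
  have : (Comma.fst L R).Final := inferInstance
  refine ⟨Comma L R, inferInstance, inferInstance, Comma.fst L R ⋙ p₁.diag,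
    Comma.snd L R ⋙ p₂.diag,
    { app := fun h => h.hom.left.hom
      naturality := fun h h' a => ?_ },
    (p₁.cocone).whisker (Comma.fst L R), (p₂.cocone).whisker (Comma.snd L R),
    (Functor.Final.isColimitWhiskerEquiv _ _).symm p₁.isColimit,
    (Functor.Final.isColimitWhiskerEquiv _ _).symm p₂.isColimit, Iso.refl _, Iso.refl _,
    fun i => p₁.prop_diag_obj _, fun i => p₂.prop_diag_obj _, fun i => ?_⟩
  · have := congrArg (fun t => t.left.hom) a.w
    exact this
  · have h : i.hom.left.hom ≫ p₂.ι.app i.right = p₁.ι.app i.left ≫ f :=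
      CostructuredArrow.w i.hom
    change p₁.ι.app i.left ≫ 𝟙 _ ≫ f = i.hom.left.hom ≫ p₂.ι.app i.right ≫ 𝟙 _
    rw [Category.id_comp, Category.comp_id]
    exact h.symm

end presentation

section kernel

variable {I : Type v} [SmallCategory I] {E : Type u} [Category.{v'} E] [Preadditive E]
  [HasColimitsOfShape I E]

/-- If filtered colimits commute with kernels, the colimit of kernels is the kernel of the colimit. -/
theorem isLimit_kernel_of_colimit
    [PreservesLimitsOfShape WalkingParallelPair (colim : (I ⥤ E) ⥤ E)]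
    {K D₁ D₂ : I ⥤ E} (κ : K ⟶ D₁) (φ : D₁ ⟶ D₂) (w : κ ≫ φ = 0)
    (hκ : ∀ i, Nonempty (IsLimit (KernelFork.ofι (κ.app i) (show κ.app i ≫ φ.app i = 0 by
      rw [← NatTrans.comp_app, w]; rfl))))
    {cK : Cocone K} {c₁ : Cocone D₁} {c₂ : Cocone D₂} (hK : IsColimit cK) (h₁ : IsColimit c₁)
    (h₂ : IsColimit c₂) (k : cK.pt ⟶ c₁.pt) (f : c₁.pt ⟶ c₂.pt)
    (hk : ∀ i, cK.ι.app i ≫ k = κ.app i ≫ c₁.ι.app i)
    (hf : ∀ i, c₁.ι.app i ≫ f = φ.app i ≫ c₂.ι.app i) (wk : k ≫ f = 0) :
    Nonempty (IsLimit (KernelFork.ofι k wk)) := by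
  have hκ' : IsLimit (KernelFork.ofι κ w) := by
    refine evaluationJointlyReflectsLimits _ fun i => ?_
    exact (isLimitMapConeForkEquiv' ((evaluation I E).obj i) w).symm (hκ i).some
  have h3 : IsLimit (KernelFork.ofι (colim.map κ) (show colim.map κ ≫ colim.map φ = 0 by
      rw [← colim.map_comp, w, colim.map_zero])) :=
    isLimitForkMapOfIsLimit' colim w hκ'
  let eK : colim.obj K ≅ cK.pt := (colimit.isColimit K).coconePointUniqueUpToIso hK
  let e₁ : colim.obj D₁ ≅ c₁.pt := (colimit.isColimit D₁).coconePointUniqueUpToIso h₁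
  let e₂ : colim.obj D₂ ≅ c₂.pt := (colimit.isColimit D₂).coconePointUniqueUpToIso h₂
  have hK' : ∀ i, colimit.ι K i ≫ eK.hom = cK.ι.app i := fun i =>
    (colimit.isColimit K).comp_coconePointUniqueUpToIso_hom hK i
  have h₁' : ∀ i, colimit.ι D₁ i ≫ e₁.hom = c₁.ι.app i := fun i =>
    (colimit.isColimit D₁).comp_coconePointUniqueUpToIso_hom h₁ i
  have h₂' : ∀ i, colimit.ι D₂ i ≫ e₂.hom = c₂.ι.app i := fun i =>
    (colimit.isColimit D₂).comp_coconePointUniqueUpToIso_hom h₂ i
  have a1 : colim.map κ ≫ e₁.hom = eK.hom ≫ k := by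
    refine (colimit.isColimit K).hom_ext fun i => ?_
    change colimit.ι K i ≫ colim.map κ ≫ e₁.hom = colimit.ι K i ≫ eK.hom ≫ k
    rw [← Category.assoc, ← Category.assoc, hK', hk]
    change (colimit.ι K i ≫ colimMap κ) ≫ e₁.hom = _
    rw [ι_colimMap, Category.assoc, h₁']
  have a2 : colim.map φ ≫ e₂.hom = e₁.hom ≫ f := by
    refine (colimit.isColimit D₁).hom_ext fun i => ?_
    change colimit.ι D₁ i ≫ colim.map φ ≫ e₂.hom = colimit.ι D₁ i ≫ e₁.hom ≫ f
    rw [← Category.assoc, ← Category.assoc, h₁', hf]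
    change (colimit.ι D₁ i ≫ colimMap φ) ≫ e₂.hom = _
    rw [ι_colimMap, Category.assoc, h₂']
  have key : ∀ {W : E} (g : W ⟶ c₁.pt), g ≫ f = 0 → ∃ l : W ⟶ cK.pt, l ≫ k = g := by
    intro W g hg
    obtain ⟨l, hl⟩ := KernelFork.IsLimit.lift' h3 (g ≫ e₁.inv) (by
      rw [← cancel_mono e₂.hom, Category.assoc, a2, Category.assoc, e₁.inv_hom_id_assoc,
        zero_comp, hg])
    have hl' : l ≫ colim.map κ = g ≫ e₁.inv := hl
    refine ⟨l ≫ eK.hom, ?_⟩
    rw [Category.assoc, ← a1, ← Category.assoc, hl', Category.assoc, e₁.inv_hom_id,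
      Category.comp_id]
  have hmono : Mono k := by
    have h4 : Mono (colim.map κ) := mono_of_isLimit_fork h3
    have h5 : k = eK.inv ≫ colim.map κ ≫ e₁.hom := by
      rw [a1, eK.inv_hom_id_assoc]
    rw [h5]
    infer_instance
  exact ⟨KernelFork.IsLimit.ofι _ _ (fun g hg => (key g hg).choose)
    (fun g hg => (key g hg).choose_spec)
    (fun g hg m hm => by
      rw [← cancel_mono k, hm, (key g hg).choose_spec])⟩

end kernel

section main

variable {C : Type u} [Category.{v} C] [Preadditive C] {P : ObjectProperty C}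
  {B : Type u'} [Category.{v'} B] [Preadditive B] (G : C ⥤ B)
  [PreservesFilteredColimitsOfSize.{v, v} G] [G.Additive]

theorem isLimit_map_of_prop [P.IsClosedUnderKernels]
    (hG : ∀ {X Y : P.FullSubcategory} (f : X ⟶ Y), PreservesLimit (parallelPair f 0) (P.ι ⋙ G))
    {K X Y : C} (hX : P X) (hY : P Y) (k : K ⟶ X) (f : X ⟶ Y) (w : k ≫ f = 0)
    (h : IsLimit (KernelFork.ofι k w)) :
    Nonempty (IsLimit (KernelFork.ofι (G.map k) (show G.map k ≫ G.map f = 0 by
      rw [← G.map_comp, w, G.map_zero]))) := by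
  have hK : P K := P.prop_of_isLimit_kernelFork h hX hY
  let X' : P.FullSubcategory := ⟨X, hX⟩
  let Y' : P.FullSubcategory := ⟨Y, hY⟩
  let K' : P.FullSubcategory := ⟨K, hK⟩
  let k' : K' ⟶ X' := ObjectProperty.homMk k
  let f' : X' ⟶ Y' := ObjectProperty.homMk f
  have w' : k' ≫ f' = 0 := ObjectProperty.hom_ext _ w
  have h' : IsLimit (KernelFork.ofι k' w') :=
    isLimitOfReflects P.ι ((isLimitMapConeForkEquiv' P.ι w').symm h)
  have := hG f'
  exact ⟨isLimitForkMapOfIsLimit' (P.ι ⋙ G) w' h'⟩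

theorem isColimit_map_of_prop [P.IsClosedUnderCokernels]
    (hG : ∀ {X Y : P.FullSubcategory} (f : X ⟶ Y), PreservesColimit (parallelPair f 0) (P.ι ⋙ G))
    {X Y K : C} (hX : P X) (hY : P Y) (f : X ⟶ Y) (k : Y ⟶ K) (w : f ≫ k = 0)
    (h : IsColimit (CokernelCofork.ofπ k w)) :
    Nonempty (IsColimit (CokernelCofork.ofπ (G.map k) (show G.map f ≫ G.map k = 0 by
      rw [← G.map_comp, w, G.map_zero]))) := by
  have hK : P K := P.prop_of_isColimit_cokernelCofork h hX hY
  let X' : P.FullSubcategory := ⟨X, hX⟩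
  let Y' : P.FullSubcategory := ⟨Y, hY⟩
  let K' : P.FullSubcategory := ⟨K, hK⟩
  let k' : Y' ⟶ K' := ObjectProperty.homMk k
  let f' : X' ⟶ Y' := ObjectProperty.homMk f
  have w' : f' ≫ k' = 0 := ObjectProperty.hom_ext _ w
  have h' : IsColimit (CokernelCofork.ofπ k' w') :=
    isColimitOfReflects P.ι ((isColimitMapCoconeCoforkEquiv' P.ι w').symm h)
  have := hG f'
  exact ⟨isColimitCoforkMapOfIsColimit' (P.ι ⋙ G) w' h'⟩

include G in
/-- Left exactness of the extension. -/
theorem IsGen.preservesKernel (hP : IsGen P) [P.IsClosedUnderKernels] [HasKernels C]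
    [HasFilteredColimitsOfSize.{v, v} C] [HasFilteredColimitsOfSize.{v, v} B]
    (hC : ∀ (J : Type v) [SmallCategory J] [IsFiltered J],
      haveI := HasFilteredColimitsOfSize.HasColimitsOfShape (C := C) J
      PreservesLimitsOfShape WalkingParallelPair (colim : (J ⥤ C) ⥤ C))
    (hB : ∀ (J : Type v) [SmallCategory J] [IsFiltered J],
      haveI := HasFilteredColimitsOfSize.HasColimitsOfShape (C := B) J
      PreservesLimitsOfShape WalkingParallelPair (colim : (J ⥤ B) ⥤ B))
    (hG : ∀ {X Y : P.FullSubcategory} (f : X ⟶ Y), PreservesLimit (parallelPair f 0) (P.ι ⋙ G))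
    {M N : C} (f : M ⟶ N) : PreservesLimit (parallelPair f 0) G := by
  obtain ⟨I, _, _, D₁, D₂, φ, c₁, c₂, h₁, h₂, e₁, e₂, hD₁, hD₂, hcomm⟩ :=
    hP.exists_arrow_presentation f
  have := HasFilteredColimitsOfSize.HasColimitsOfShape (C := C) I
  have := HasFilteredColimitsOfSize.HasColimitsOfShape (C := B) I
  have := hC I
  have := hB I
  have : PreservesColimitsOfShape I G :=
    PreservesFilteredColimitsOfSize.preserves_filtered_colimits _
  let K : I ⥤ C :=
    { obj := fun i => kernel (φ.app i)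
      map := fun {i j} a => kernel.map (φ.app i) (φ.app j) (D₁.map a) (D₂.map a)
        (φ.naturality a).symm
      map_id := fun i => by
        refine (cancel_mono (kernel.ι _)).mp ?_
        simp
      map_comp := fun a b => by
        refine (cancel_mono (kernel.ι _)).mp ?_
        simp }
  let κ : K ⟶ D₁ :=
    { app := fun i => kernel.ι (φ.app i)
      naturality := fun i j a => kernel.lift_ι _ _ _ }
  have w : κ ≫ φ = 0 := by
    ext i
    exact kernel.condition _
  let cK : Cocone K := colimit.cocone K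
  have hK : IsColimit cK := colimit.isColimit K
  let g : c₁.pt ⟶ c₂.pt := e₁.hom ≫ f ≫ e₂.inv
  have hg : ∀ i, c₁.ι.app i ≫ g = φ.app i ≫ c₂.ι.app i := by
    intro i
    have h3 := hcomm i
    rw [← cancel_mono e₂.hom]
    simp only [g, Category.assoc, Iso.inv_hom_id, Category.comp_id]
    exact h3
  let k : cK.pt ⟶ c₁.pt := hK.map c₁ κ
  have hk : ∀ i, cK.ι.app i ≫ k = κ.app i ≫ c₁.ι.app i := fun i => hK.ι_map c₁ κ i
  have wk : k ≫ g = 0 := by
    refine hK.hom_ext fun i => ?_
    rw [← Category.assoc, hk, Category.assoc, hg, ← Category.assoc, comp_zero]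
    change (κ ≫ φ).app i ≫ _ = _
    rw [w]
    exact zero_comp
  obtain ⟨hlim⟩ := isLimit_kernel_of_colimit κ φ w (fun i => ⟨kernelIsKernel (φ.app i)⟩)
    hK h₁ h₂ k g hk hg wk
  -- the image in `B`
  let κ' : K ⋙ G ⟶ D₁ ⋙ G := Functor.whiskerRight κ G
  let φ' : D₁ ⋙ G ⟶ D₂ ⋙ G := Functor.whiskerRight φ G
  have w' : κ' ≫ φ' = 0 := by
    ext i
    change G.map (κ.app i) ≫ G.map (φ.app i) = 0
    rw [← G.map_comp, ← NatTrans.comp_app, w]
    exact G.map_zero _ _
  have wk' : G.map k ≫ G.map g = 0 := by rw [← G.map_comp, wk, G.map_zero]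
  obtain ⟨hlim'⟩ := isLimit_kernel_of_colimit κ' φ' w'
    (fun i => isLimit_map_of_prop G hG (hD₁ i) (hD₂ i) (κ.app i) (φ.app i)
      (show κ.app i ≫ φ.app i = 0 from kernel.condition _) (kernelIsKernel (φ.app i)))
    (isColimitOfPreserves G hK) (isColimitOfPreserves G h₁) (isColimitOfPreserves G h₂)
    (G.map k) (G.map g)
    (fun i => by
      change G.map _ ≫ G.map k = G.map _ ≫ G.map _
      rw [← G.map_comp, ← G.map_comp, hk])
    (fun i => by
      change G.map _ ≫ G.map g = G.map _ ≫ G.map _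
      rw [← G.map_comp, ← G.map_comp, hg]) wk'
  have h4 : PreservesLimit (parallelPair g 0) G :=
    preservesLimit_of_preserves_limit_cone hlim ((isLimitMapConeForkEquiv' G wk).symm hlim')
  let e : parallelPair g 0 ≅ parallelPair f 0 := parallelPair.ext e₁ e₂ (by simp [g]) (by simp)
  exact preservesLimit_of_iso_diagram G e

/-- Right exactness of the extension. -/
theorem IsGen.preservesCokernel (hP : IsGen P) [P.IsClosedUnderCokernels] [HasCokernels C]
    (hG : ∀ {X Y : P.FullSubcategory} (f : X ⟶ Y),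
      PreservesColimit (parallelPair f 0) (P.ι ⋙ G))
    {M N : C} (f : M ⟶ N) : PreservesColimit (parallelPair f 0) G := by
  obtain ⟨I, _, _, D₁, D₂, φ, c₁, c₂, h₁, h₂, e₁, e₂, hD₁, hD₂, hcomm⟩ :=
    hP.exists_arrow_presentation f
  have : PreservesColimitsOfShape I G :=
    PreservesFilteredColimitsOfSize.preserves_filtered_colimits _
  let Q : I ⥤ C :=
    { obj := fun i => cokernel (φ.app i)
      map := fun {i j} a => cokernel.map (φ.app i) (φ.app j) (D₁.map a) (D₂.map a)
        (φ.naturality a).symm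
      map_id := fun i => by
        refine (cancel_epi (cokernel.π _)).mp ?_
        simp
      map_comp := fun a b => by
        refine (cancel_epi (cokernel.π _)).mp ?_
        simp }
  let q : ∀ i, D₂.obj i ⟶ Q.obj i := fun i => cokernel.π (φ.app i)
  have hqQ : ∀ {i j} (a : i ⟶ j), q i ≫ Q.map a = D₂.map a ≫ q j := fun a => cokernel.π_desc _ _ _
  have hq0 : ∀ i, φ.app i ≫ q i = 0 := fun i => cokernel.condition _
  let π : N ⟶ cokernel f := cokernel.π f
  have hπ0 : f ≫ π = 0 := cokernel.condition f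
  -- the cocone
  let t : ∀ i, Q.obj i ⟶ cokernel f := fun i =>
    cokernel.desc (φ.app i) (c₂.ι.app i ≫ e₂.hom ≫ π) (by
      have := hcomm i
      rw [← Category.assoc, ← Category.assoc, Category.assoc (φ.app i), ← this]
      simp [hπ0])
  have ht : ∀ i, q i ≫ t i = c₂.ι.app i ≫ e₂.hom ≫ π := fun i => cokernel.π_desc _ _ _
  let cQ : Cocone Q :=
    { pt := cokernel f
      ι := { app := t
             naturality := fun i j a => by
              refine (cancel_epi (cokernel.π (φ.app i))).mp ?_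
              change q i ≫ Q.map a ≫ t j = q i ≫ t i ≫ 𝟙 _
              rw [← Category.assoc, hqQ, Category.assoc, ht, Category.comp_id, ht,
                ← Category.assoc, c₂.w] } }
  have hcQ : IsColimit cQ := by
    have hd : ∀ s : Cocone Q, ∃ d : cokernel f ⟶ s.pt, ∀ i, t i ≫ d = s.ι.app i := by
      intro s
      let s' : Cocone D₂ :=
        { pt := s.pt
          ι := { app := fun i => q i ≫ s.ι.app i
                 naturality := fun i j a => by
                  change D₂.map a ≫ q j ≫ s.ι.app j = (q i ≫ s.ι.app i) ≫ 𝟙 _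
                  rw [Category.comp_id, ← Category.assoc, ← hqQ, Category.assoc, s.w] } }
      let d' : N ⟶ s.pt := e₂.inv ≫ h₂.desc s'
      have hd' : ∀ i, c₂.ι.app i ≫ e₂.hom ≫ d' = q i ≫ s.ι.app i := fun i => by
        simp only [d', Iso.hom_inv_id_assoc]
        exact h₂.fac s' i
      have h0 : f ≫ d' = 0 := by
        rw [← cancel_epi e₁.hom]
        refine h₁.hom_ext fun i => ?_
        have h3 := hcomm i
        calc c₁.ι.app i ≫ e₁.hom ≫ f ≫ d' = (c₁.ι.app i ≫ e₁.hom ≫ f) ≫ d' := by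
              simp only [Category.assoc]
          _ = φ.app i ≫ (c₂.ι.app i ≫ e₂.hom ≫ d') := by rw [h3]; simp only [Category.assoc]
          _ = 0 := by rw [hd', ← Category.assoc, hq0, zero_comp]
          _ = c₁.ι.app i ≫ e₁.hom ≫ 0 := by simp
      refine ⟨cokernel.desc f d' h0, fun i => ?_⟩
      refine (cancel_epi (cokernel.π (φ.app i))).mp ?_
      change q i ≫ t i ≫ _ = q i ≫ _
      rw [← Category.assoc, ht, ← hd']
      simp only [Category.assoc, π, cokernel.π_desc]
    refine { desc := fun s => (hd s).choose, fac := fun s => (hd s).choose_spec,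
             uniq := fun s m hm => ?_ }
    refine (cancel_epi (cokernel.π f)).mp ?_
    rw [← cancel_epi e₂.hom]
    refine h₂.hom_ext fun i => ?_
    have h4 : c₂.ι.app i ≫ e₂.hom ≫ cokernel.π f ≫ m = (q i ≫ t i) ≫ m := by
      rw [ht]; simp only [Category.assoc, π]
    have h5 : c₂.ι.app i ≫ e₂.hom ≫ cokernel.π f ≫ (hd s).choose =
        (q i ≫ t i) ≫ (hd s).choose := by
      rw [ht]; simp only [Category.assoc, π]
    have h6 : t i ≫ m = s.ι.app i := hm i
    rw [h4, h5, Category.assoc, Category.assoc, h6, (hd s).choose_spec]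
  have hGQ := isColimitOfPreserves G hcQ
  have hG₁ := isColimitOfPreserves G h₁
  have hG₂ := isColimitOfPreserves G h₂
  have hcok := fun i => isColimit_map_of_prop G hG (hD₁ i) (hD₂ i) (φ.app i) (q i) (hq0 i)
    (cokernelIsCokernel (φ.app i))
  have hepi : ∀ i, Epi (G.map (q i)) := fun i => epi_of_isColimit_cofork (hcok i).some
  have w : G.map f ≫ G.map π = 0 := by rw [← G.map_comp, hπ0, G.map_zero]
  have hex : ∀ {Z : B} (k : G.obj N ⟶ Z), G.map f ≫ k = 0 →
      ∃ l : G.obj (cokernel f) ⟶ Z, G.map π ≫ l = k := by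
    intro Z k hk
    have h7 : ∀ i, G.map (φ.app i) ≫ G.map (c₂.ι.app i ≫ e₂.hom) ≫ k = 0 := by
      intro i
      rw [← Category.assoc, ← G.map_comp, ← hcomm i, G.map_comp, G.map_comp]
      simp only [Category.assoc, hk, comp_zero]
    let m : ∀ i, G.obj (Q.obj i) ⟶ Z := fun i =>
      (CokernelCofork.IsColimit.desc' (hcok i).some _ (h7 i)).1
    have hm : ∀ i, G.map (q i) ≫ m i = G.map (c₂.ι.app i ≫ e₂.hom) ≫ k := fun i =>
      (CokernelCofork.IsColimit.desc' (hcok i).some _ (h7 i)).2
    let s : Cocone (Q ⋙ G) :=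
      { pt := Z
        ι := { app := m
               naturality := fun i j a => by
                have := hepi i
                refine (cancel_epi (G.map (q i))).mp ?_
                change G.map (q i) ≫ G.map (Q.map a) ≫ m j = G.map (q i) ≫ m i ≫ 𝟙 _
                rw [Category.comp_id, hm, ← Category.assoc, ← G.map_comp, hqQ, G.map_comp,
                  Category.assoc, hm, ← Category.assoc, ← G.map_comp, ← Category.assoc, c₂.w] } }
    let l : G.obj (cokernel f) ⟶ Z := hGQ.desc s
    have hl : ∀ i, G.map (t i) ≫ l = m i := fun i => hGQ.fac s i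
    refine ⟨l, ?_⟩
    rw [← cancel_epi (G.map e₂.hom)]
    refine hG₂.hom_ext fun i => ?_
    change G.map (c₂.ι.app i) ≫ G.map e₂.hom ≫ G.map π ≫ l =
      G.map (c₂.ι.app i) ≫ G.map e₂.hom ≫ k
    have h8 : G.map (c₂.ι.app i) ≫ G.map e₂.hom ≫ G.map π ≫ l = G.map (q i ≫ t i) ≫ l := by
      rw [ht]; simp only [G.map_comp, Category.assoc]
    rw [h8, G.map_comp, Category.assoc, hl, hm]
    simp only [G.map_comp, Category.assoc]
  have huniq : ∀ {Z : B} (l l' : G.obj (cokernel f) ⟶ Z), G.map π ≫ l = G.map π ≫ l' →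
      l = l' := by
    intro Z l l' hl
    refine hGQ.hom_ext fun i => ?_
    have := hepi i
    refine (cancel_epi (G.map (q i))).mp ?_
    change G.map (q i) ≫ G.map (t i) ≫ l = G.map (q i) ≫ G.map (t i) ≫ l'
    rw [← Category.assoc, ← Category.assoc, ← G.map_comp, ht]
    simp only [G.map_comp, Category.assoc, hl]
  refine preservesColimit_of_preserves_colimit_cocone (cokernelIsCokernel f)
    ((isColimitMapCoconeCoforkEquiv' G hπ0).symm ?_)
  exact CokernelCofork.IsColimit.ofπ _ _ (fun k hk => (hex k hk).choose)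
    (fun k hk => (hex k hk).choose_spec)
    (fun k hk m hm => huniq _ _ (hm.trans (hex k hk).choose_spec.symm))

end main

end K355
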