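import Groth.Agent.FunMor.K355.IndCoprod
import Groth.Agent.FunMor.K355.IndExact
import Groth.Agent.FunMor.K355.FPWatts
import Mathlib.CategoryTheory.Preadditive.LeftExact
import Mathlib.CategoryTheory.Preadditive.Biproducts

/-!
# Additivity, exactness and direct sums for functors preserving filtered colimits
-/

set_option autoImplicit false
universe v u v' u'
open CategoryTheory CategoryTheory.Limits

namespace K355

variable {C : Type u} [Category.{v} C] [Abelian C] {B : Type u'} [Category.{v'} B] [Preadditive B]
  {P : ObjectProperty C} (hP : IsGen P) (F' : C ⥤ B) [PreservesFilteredColimitsOfSize.{v, v} F']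

theorem preservesCoproducts_of_additive' [HasFilteredColimitsOfSize.{v, v} C] [F'.Additive]
    (J : Type v) :
    PreservesColimitsOfShape (Discrete J) F' := by
  refine preservesCoproducts_of_filtered F' (fun J _ => ?_) J
  obtain ⟨n, ⟨e⟩⟩ := Finite.exists_equiv_fin J
  have : PreservesFiniteCoproducts F' := inferInstance
  have : PreservesColimitsOfShape (Discrete (Fin n)) F' := PreservesFiniteCoproducts.preserves n
  exact preservesColimitsOfShape_of_equiv (Discrete.equivalence e.symm) F'

include hP in
theorem IsGen.rightExact [HasFiniteBiproducts B] [HasFiniteBiproducts P.FullSubcategory]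
    [P.IsClosedUnderCokernels]
    [PreservesFiniteColimits (P.ι ⋙ F')] :
    F'.Additive ∧ PreservesFiniteColimits F' := by
  have := additive_of_preservesFiniteColimits (P.ι ⋙ F')
  have hadd := hP.additive F'
  refine ⟨hadd, ?_⟩
  have := fun {M N : C} (f : M ⟶ N) =>
    IsGen.preservesCokernel F' hP (fun f => inferInstance) f
  exact Functor.preservesFiniteColimits_of_preservesCokernels F'

include hP in
theorem IsGen.leftExact [HasFiniteBiproducts B] [HasFiniteBiproducts P.FullSubcategory]
    [P.IsClosedUnderKernels]
    [HasFilteredColimitsOfSize.{v, v} C] [HasFilteredColimitsOfSize.{v, v} B]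
    (hC : ∀ (J : Type v) [SmallCategory J] [IsFiltered J],
      haveI := HasFilteredColimitsOfSize.HasColimitsOfShape (C := C) J
      PreservesLimitsOfShape WalkingParallelPair (colim : (J ⥤ C) ⥤ C))
    (hB : ∀ (J : Type v) [SmallCategory J] [IsFiltered J],
      haveI := HasFilteredColimitsOfSize.HasColimitsOfShape (C := B) J
      PreservesLimitsOfShape WalkingParallelPair (colim : (J ⥤ B) ⥤ B))
    [PreservesFiniteLimits (P.ι ⋙ F')] :
    F'.Additive ∧ PreservesFiniteLimits F' := by
  have := additive_of_preservesFiniteLimits (P.ι ⋙ F')
  have hadd := hP.additive F'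
  refine ⟨hadd, ?_⟩
  have := fun {M N : C} (f : M ⟶ N) =>
    IsGen.preservesKernel F' hP hC hB (fun f => inferInstance) f
  exact Functor.preservesFiniteLimits_of_preservesKernels F'

end K355
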