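import Groth.Agent.FunMor.K355.SecFil
import Groth.Agent.FunMor.K355.FMExactFlat
import Groth.Agent.FunMor.K355.ExtGen

/-!
# `M ↦ q_* (p^* M ⊗ K)` commutes with direct sums for `q` quasi-compact and quasi-separated
-/

set_option autoImplicit false
universe u
open CategoryTheory CategoryTheory.Limits AlgebraicGeometry

namespace K355

variable {X Y P : Scheme.{u}} (p : P ⟶ X) (q : P ⟶ Y) (K : P.Modules)

theorem preservesCoproducts_push [QuasiCompact q] [QuasiSeparated q] (J : Type u) :
    PreservesColimitsOfShape (Discrete J) ((QCohCat.isQCoh P).ι ⋙ Scheme.Modules.pushforward q) := by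
  let := abelianQCoh P
  have : PreservesFilteredColimitsOfSize.{u, u}
      ((QCohCat.isQCoh P).ι ⋙ Scheme.Modules.pushforward q) :=
    ⟨fun J _ _ => preservesFiltered_push q J⟩
  have := hasFilteredColimits_QCoh P
  exact preservesCoproducts_of_additive'
    ((QCohCat.isQCoh P).ι ⋙ Scheme.Modules.pushforward q) J

theorem preservesCoproducts_FM [QuasiCompact q] [QuasiSeparated q] (hK : Coh.IsQCoh K)
    (J : Type u) :
    PreservesColimitsOfShape (Discrete J) ((QCohCat.isQCoh X).ι ⋙ FM p q K) := by
  have := preservesColimits_pullTensQ p K hK (Discrete J)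
  have := preservesCoproducts_push q J
  have h : PreservesColimitsOfShape (Discrete J)
    (pullTensQ p K hK ⋙ ((QCohCat.isQCoh P).ι ⋙ Scheme.Modules.pushforward q)) := inferInstance
  exact h

theorem preservesFiltered_FM [QuasiCompact q] [QuasiSeparated q] (hK : Coh.IsQCoh K)
    (J : Type u) [SmallCategory J] [IsFiltered J] :
    PreservesColimitsOfShape J ((QCohCat.isQCoh X).ι ⋙ FM p q K) := by
  have := preservesColimits_pullTensQ p K hK J
  have := preservesFiltered_push q J
  have h : PreservesColimitsOfShape J
    (pullTensQ p K hK ⋙ ((QCohCat.isQCoh P).ι ⋙ Scheme.Modules.pushforward q)) := inferInstance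
  exact h

end K355
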