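import Groth.Agent.FunMor.K355.Subcat

/-!
# A full subcategory of a full subcategory
-/

set_option autoImplicit false
universe w w' v u v' u' v'' u''
open CategoryTheory CategoryTheory.Limits

namespace K355

section

variable {C : Type u} [Category.{v} C] {P Q : ObjectProperty C} (h : P ≤ Q)

/-- `P` as a property of objects of the full subcategory `Q`. -/
abbrev sub (P Q : ObjectProperty C) : ObjectProperty Q.FullSubcategory := P.inverseImage Q.ι

/-- The comparison functor. -/
abbrev subT : P.FullSubcategory ⥤ (sub P Q).FullSubcategory :=
  (sub P Q).lift (ObjectProperty.ιOfLE h) (fun X => X.property)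

/-- The comparison functor in the other direction. -/
abbrev subS (P Q : ObjectProperty C) : (sub P Q).FullSubcategory ⥤ P.FullSubcategory :=
  P.lift ((sub P Q).ι ⋙ Q.ι) (fun X => X.property)

/-- The equivalence. -/
def subE : P.FullSubcategory ≌ (sub P Q).FullSubcategory where
  functor := subT h
  inverse := subS P Q
  unitIso := NatIso.ofComponents (fun X => Iso.refl _) (fun f => by
    change f ≫ 𝟙 _ = 𝟙 _ ≫ f
    rw [Category.comp_id, Category.id_comp])
  counitIso := NatIso.ofComponents (fun X => Iso.refl _) (fun f => by
    change f ≫ 𝟙 _ = 𝟙 _ ≫ f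
    rw [Category.comp_id, Category.id_comp])
  functor_unitIso_comp X := Category.comp_id _

end

section

variable {C : Type u} [Category.{v} C] [Abelian C] {P Q : ObjectProperty C}

theorem inverseImage_isClosedUnderKernels {D : Type u'} [Category.{v'} D] [Abelian D] (G : D ⥤ C)
    [G.PreservesZeroMorphisms] [PreservesFiniteLimits G] [P.IsClosedUnderKernels] :
    (P.inverseImage G).IsClosedUnderKernels where
  kernels_le := by
    rintro _ ⟨f, k, hk, hf⟩
    exact P.prop_of_isLimit_kernelFork (KernelFork.mapIsLimit k hk G) hf.1 hf.2

theorem inverseImage_isClosedUnderCokernels {D : Type u'} [Category.{v'} D] [Abelian D] (G : D ⥤ C)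
    [G.PreservesZeroMorphisms] [PreservesFiniteColimits G] [P.IsClosedUnderCokernels] :
    (P.inverseImage G).IsClosedUnderCokernels where
  cokernels_le := by
    rintro _ ⟨f, k, hk, hf⟩
    exact P.prop_of_isColimit_cokernelCofork (CokernelCofork.mapIsColimit k hk G) hf.1 hf.2

end

end K355
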