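import Groth.Agent.FunMor.K355.QCohGen
import Groth.Agent.FunMor.K355.ExtGen
import Groth.Agent.FunMor.K355.SubSub

/-!
# Extending functors from coherent to quasi-coherent modules
-/

set_option autoImplicit false
universe u v' u'
open CategoryTheory CategoryTheory.Limits AlgebraicGeometry

namespace K355

section

variable (X : Scheme.{u})

abbrev cohP : ObjectProperty X.Modules := fun M => Coh.IsCoh M

theorem cohP_le : cohP X ≤ QCohCat.isQCoh X := fun _ h => h.1

open Groth.Agent.PerfA.CohSerre Groth.Agent.PerfB.ResolQC Groth.Agent.PerfA.QCohSerre in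
theorem cohP_closed [IsLocallyNoetherian X] : (cohP X).IsClosedUnderKernels ∧
    (cohP X).IsClosedUnderCokernels ∧
    (cohP X).ContainsZero ∧ (cohP X).IsClosedUnderFiniteProducts := by
  have h1 : (cohP X).IsClosedUnderKernels := inferInstanceAs (cohp X).IsClosedUnderKernels
  have h2 : (cohP X).IsClosedUnderCokernels := inferInstanceAs (cohp X).IsClosedUnderCokernels
  have h3 : (cohP X).ContainsZero := inferInstanceAs (cohp X).ContainsZero
  refine ⟨h1, h2, h3, ?_⟩
  have : (cohP X).IsClosedUnderBinaryProducts := by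
    refine ⟨?_⟩
    rintro M ⟨p⟩
    have h1 := p.prop_diag_obj ⟨WalkingPair.left⟩
    have h2 := p.prop_diag_obj ⟨WalkingPair.right⟩
    let e : M ≅ (p.diag.obj ⟨WalkingPair.left⟩) ⊞ (p.diag.obj ⟨WalkingPair.right⟩) :=
      IsLimit.conePointUniqueUpToIso p.isLimit
        ((IsLimit.postcomposeHomEquiv (diagramIsoPair p.diag).symm _).symm
          (BinaryBiproduct.isLimit _ _))
    refine isCoh_of_iso e.symm ?_
    exact Groth.Agent.PerfA.QCohExt.isCoh_ext
      (S := ShortComplex.mk (biprod.inl : (p.diag.obj ⟨WalkingPair.left⟩) ⟶ (p.diag.obj ⟨WalkingPair.left⟩) ⊞ (p.diag.obj ⟨WalkingPair.right⟩)) biprod.snd (by simp))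
      (ShortComplex.Splitting.ofHasBinaryBiproduct _ _).shortExact h1 h2
  exact .mk'

end

section main

variable (X Y : Scheme.{u})

/-- The inclusion of coherent modules in quasi-coherent modules. -/
abbrev incC (X : Scheme.{u}) : (cohP X).FullSubcategory ⥤ QCohCat.QCoh X :=
  ObjectProperty.ιOfLE (cohP_le X)

/-- Coherent modules generate quasi-coherent modules. -/
theorem isGen_sub [IsNoetherian X] : IsGen (sub (cohP X) (QCohCat.isQCoh X)) := isGen_cohQ X

/-- The passage to the generator. -/
def subIso {B : Type u'} [Category.{v'} B] {F' : QCohCat.QCoh X ⥤ B}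
    {G : (cohP X).FullSubcategory ⥤ B} (e : incC X ⋙ F' ≅ G) :
    (sub (cohP X) (QCohCat.isQCoh X)).ι ⋙ F' ≅ subS (cohP X) (QCohCat.isQCoh X) ⋙ G :=
  Functor.isoWhiskerLeft (subS (cohP X) (QCohCat.isQCoh X)) e

/-- The passage back from the generator. -/
def subIsoInv {B : Type u'} [Category.{v'} B] {F' : QCohCat.QCoh X ⥤ B}
    {G : (cohP X).FullSubcategory ⥤ B}
    (e : (sub (cohP X) (QCohCat.isQCoh X)).ι ⋙ F' ≅ subS (cohP X) (QCohCat.isQCoh X) ⋙ G) :
    incC X ⋙ F' ≅ G :=
  Functor.isoWhiskerLeft (subT (cohP_le X)) e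

theorem coh_exists_extension [IsNoetherian X] {B : Type u'} [Category.{v'} B]
    [HasFilteredColimitsOfSize.{u, u} B] (G : (cohP X).FullSubcategory ⥤ B) :
    ∃ F' : QCohCat.QCoh X ⥤ B, PreservesFilteredColimitsOfSize.{u, u} F' ∧
      Nonempty (incC X ⋙ F' ≅ G) := by
  obtain ⟨F', h1, ⟨e⟩⟩ := (isGen_sub X).exists_extension (subS (cohP X) (QCohCat.isQCoh X) ⋙ G)
  exact ⟨F', h1, ⟨subIsoInv X e⟩⟩

theorem coh_exists_iso [IsNoetherian X] {B : Type u'} [Category.{v'} B]
    (F₁ F₂ : QCohCat.QCoh X ⥤ B) [PreservesFilteredColimitsOfSize.{u, u} F₁]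
    [PreservesFilteredColimitsOfSize.{u, u} F₂] (e : incC X ⋙ F₁ ≅ incC X ⋙ F₂) :
    Nonempty (F₁ ≅ F₂) := by
  obtain ⟨e', -⟩ := (isGen_sub X).exists_iso F₁ F₂ (subIso X e)
  exact ⟨e'⟩

theorem coh_additive [IsNoetherian X] {B : Type u'} [Category.{v'} B] [Preadditive B]
    (F' : QCohCat.QCoh X ⥤ B) [PreservesFilteredColimitsOfSize.{u, u} F']
    [(incC X ⋙ F').Additive] : F'.Additive := by
  have : ((sub (cohP X) (QCohCat.isQCoh X)).ι ⋙ F').Additive := by
    constructor
    intro M N f g
    exact (incC X ⋙ F').map_add (f := (subS (cohP X) (QCohCat.isQCoh X)).map f)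
      (g := (subS (cohP X) (QCohCat.isQCoh X)).map g)
  exact (isGen_sub X).additive F'

theorem coh_coproducts [IsNoetherian X] {B : Type u'} [Category.{v'} B] [Preadditive B]
    (F' : QCohCat.QCoh X ⥤ B) [PreservesFilteredColimitsOfSize.{u, u} F']
    [(incC X ⋙ F').Additive] (J : Type u) : PreservesColimitsOfShape (Discrete J) F' := by
  let := abelianQCoh X
  have := coh_additive X F'
  have := hasFilteredColimits_QCoh X
  exact preservesCoproducts_of_additive' F' J

theorem hasFiniteBiproducts_cohP [IsLocallyNoetherian X] :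
    HasFiniteBiproducts (cohP X).FullSubcategory := by
  obtain ⟨h1, h2, h3, h4⟩ := cohP_closed X
  have : HasFiniteProducts (cohP X).FullSubcategory := inferInstance
  exact HasFiniteBiproducts.of_hasFiniteProducts

theorem hasFiniteBiproducts_sub [IsLocallyNoetherian X] :
    HasFiniteBiproducts (sub (cohP X) (QCohCat.isQCoh X)).FullSubcategory := by
  obtain ⟨h1, h2, h3, h4⟩ := cohP_closed X
  have : HasFiniteProducts (cohP X).FullSubcategory := inferInstance
  have : (subS (cohP X) (QCohCat.isQCoh X)).IsEquivalence :=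
    (subE (cohP_le X)).isEquivalence_inverse
  have : HasFiniteProducts (sub (cohP X) (QCohCat.isQCoh X)).FullSubcategory :=
    ⟨fun n => Adjunction.hasLimitsOfShape_of_equivalence (subS (cohP X) (QCohCat.isQCoh X))⟩
  exact HasFiniteBiproducts.of_hasFiniteProducts

theorem coh_rightExact [IsNoetherian X] {B : Type u'} [Category.{v'} B] [Preadditive B]
    [HasFiniteBiproducts B]
    (F' : QCohCat.QCoh X ⥤ B) [PreservesFilteredColimitsOfSize.{u, u} F']
    [PreservesFiniteColimits (incC X ⋙ F')] :
    F'.Additive ∧ PreservesFiniteColimits F' := by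
  let := abelianQCoh X
  obtain ⟨h1, h2, h3, h4⟩ := cohP_closed X
  have : PreservesFiniteColimits ((sub (cohP X) (QCohCat.isQCoh X)).ι ⋙ F') := by
    have : (subS (cohP X) (QCohCat.isQCoh X)).IsEquivalence :=
      (subE (cohP_le X)).isEquivalence_inverse
    have h : PreservesFiniteColimits (subS (cohP X) (QCohCat.isQCoh X) ⋙ (incC X ⋙ F')) :=
      inferInstance
    exact h
  have := preservesFiniteColimits_ιQ X
  have hc : (sub (cohP X) (QCohCat.isQCoh X)).IsClosedUnderCokernels :=
    inverseImage_isClosedUnderCokernels _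
  have hb := hasFiniteBiproducts_sub X
  exact (isGen_sub X).rightExact F'

theorem coh_leftExact [IsNoetherian X] {B : Type u'} [Category.{v'} B] [Preadditive B]
    [HasFiniteBiproducts B] [HasFilteredColimitsOfSize.{u, u} B]
    (hB : ∀ (J : Type u) [SmallCategory J] [IsFiltered J],
      haveI := HasFilteredColimitsOfSize.HasColimitsOfShape (C := B) J
      PreservesLimitsOfShape WalkingParallelPair (colim : (J ⥤ B) ⥤ B))
    (F' : QCohCat.QCoh X ⥤ B) [PreservesFilteredColimitsOfSize.{u, u} F']
    [PreservesFiniteLimits (incC X ⋙ F')] :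
    F'.Additive ∧ PreservesFiniteLimits F' := by
  let := abelianQCoh X
  obtain ⟨h1, h2, h3, h4⟩ := cohP_closed X
  have : PreservesFiniteLimits ((sub (cohP X) (QCohCat.isQCoh X)).ι ⋙ F') := by
    have : (subS (cohP X) (QCohCat.isQCoh X)).IsEquivalence :=
      (subE (cohP_le X)).isEquivalence_inverse
    have h : PreservesFiniteLimits (subS (cohP X) (QCohCat.isQCoh X) ⋙ (incC X ⋙ F')) :=
      inferInstance
    exact h
  have := preservesFiniteLimits_ιQ X
  have hc : (sub (cohP X) (QCohCat.isQCoh X)).IsClosedUnderKernels :=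
    inverseImage_isClosedUnderKernels _
  have hb := hasFiniteBiproducts_sub X
  have := hasFilteredColimits_QCoh X
  exact (isGen_sub X).leftExact F' (fun J _ _ => preservesLimits_colim_QCoh X J) hB

end main

end K355
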