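import Groth.Agent.Models2.QCohPush
import Mathlib.Algebra.Category.ModuleCat.Colimits
import Mathlib.Algebra.Category.ModuleCat.Limits

/-!
# Sections of quasi-coherent modules over affine opens, as functors to abelian groups
-/

set_option autoImplicit false
universe u v' u'
open CategoryTheory CategoryTheory.Limits AlgebraicGeometry TopologicalSpace Opposite

namespace K355

open Groth.Agent.Models2.QCohColim Groth.Agent.Models2.QCohPush

variable {X : Scheme.{u}}

/-- Sections of modules over `U`. -/
noncomputable abbrev secM (U : X.Opens) : X.Modules ⥤ Ab.{u} :=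
  Scheme.Modules.toPresheaf X ⋙ (evaluation _ _).obj (op U)

/-- Sections of quasi-coherent modules over `U`. -/
noncomputable abbrev secQ (U : X.Opens) : QCohCat.QCoh X ⥤ Ab.{u} :=
  (QCohCat.isQCoh X).ι ⋙ secM U

/-- The underlying abelian group of the sections over the range of an open immersion. -/
noncomputable def secQIso₀ {R : CommRingCat.{u}} (f : Spec R ⟶ X) [IsOpenImmersion f] :
    ΓQ f ⋙ forget₂ (ModuleCat.{u} R) Ab.{u} ≅ secQ (f ''ᵁ ⊤) :=
  NatIso.ofComponents (fun _ => Iso.refl _) (fun {_ _} g =>
    (Category.comp_id ((ΓQ f ⋙ forget₂ (ModuleCat.{u} R) Ab.{u}).map g)).trans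
      (Category.id_comp ((secQ (f ''ᵁ ⊤)).map g)).symm)

/-- Sections over equal opens. -/
noncomputable def secQCongr {U V : X.Opens} (h : U = V) : secQ U ≅ secQ V :=
  Functor.isoWhiskerLeft (QCohCat.isQCoh X).ι (Functor.isoWhiskerLeft (Scheme.Modules.toPresheaf X)
    ((evaluation _ _).mapIso (eqToIso (congrArg op h))))

theorem preservesColimits_secQ {U : X.Opens} (hU : IsAffineOpen U) (J : Type u) [SmallCategory J] :
    PreservesColimitsOfShape J (secQ U) := by
  have h1 : PreservesColimitsOfShape J (ΓQ hU.fromSpec ⋙ forget₂ (ModuleCat.{u} _) Ab.{u}) :=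
    inferInstance
  have h2 : hU.fromSpec ''ᵁ ⊤ = U := by
    rw [Scheme.Hom.image_top_eq_opensRange, hU.opensRange_fromSpec]
  exact preservesColimitsOfShape_of_natIso (secQIso₀ hU.fromSpec ≪≫ secQCongr h2)

/-- A cocone in quasi-coherent modules is a colimit if its sections over affine opens are. -/
theorem isColimit_of_secQ {J : Type u} [SmallCategory J] {D : J ⥤ QCohCat.QCoh X} (c : Cocone D)
    (h : ∀ U : X.affineOpens, Nonempty (IsColimit ((secQ U.1).mapCocone c))) :
    Nonempty (IsColimit c) := by
  let c₀ := colimit.cocone D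
  let hc₀ : IsColimit c₀ := colimit.isColimit D
  let d : c₀.pt ⟶ c.pt := hc₀.desc c
  have key : ∀ U : X.affineOpens, IsIso ((secQ U.1).map d) := by
    intro U
    have := preservesColimits_secQ U.2 J
    have h1 : IsColimit ((secQ U.1).mapCocone c₀) := isColimitOfPreserves (secQ U.1) hc₀
    obtain ⟨h2⟩ := h U
    have h3 : (secQ U.1).map d = (h1.coconePointUniqueUpToIso h2).hom := by
      refine h1.hom_ext fun j => ?_
      rw [IsColimit.comp_coconePointUniqueUpToIso_hom]
      change (secQ U.1).map (c₀.ι.app j) ≫ (secQ U.1).map d = (secQ U.1).map (c.ι.app j)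
      rw [← Functor.map_comp, hc₀.fac]
    rw [h3]
    infer_instance
  have : IsIso d.hom := isIso_of_affine _ fun U =>
    (ConcreteCategory.isIso_iff_bijective _).1 (key U)
  have : IsIso d := isIso_of_isIso_hom d
  exact ⟨IsColimit.ofPointIso hc₀ (i := this)⟩

/-- A functor to quasi-coherent modules preserves colimits if its sections over affine opens do. -/
theorem preservesColimits_of_secQ {C : Type u'} [Category.{v'} C] (G : C ⥤ QCohCat.QCoh X)
    (J : Type u) [SmallCategory J]
    (h : ∀ U : X.affineOpens, PreservesColimitsOfShape J (G ⋙ secQ U.1)) :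
    PreservesColimitsOfShape J G where
  preservesColimit {D} := ⟨fun {c} hc => isColimit_of_secQ _ fun U => by
    have := h U
    exact ⟨isColimitOfPreserves (G ⋙ secQ U.1) hc⟩⟩

/-- Pushforward along an affine morphism preserves colimits of quasi-coherent modules. -/
theorem preservesColimits_pushQ_affine {Y : Scheme.{u}} (f : X ⟶ Y) [IsAffineHom f]
    (J : Type u) [SmallCategory J] : PreservesColimitsOfShape J (pushQ f) := by
  refine preservesColimits_of_secQ _ J fun U => ?_
  exact preservesColimits_secQ (U.2.preimage f) J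

theorem preservesColimits_push_affine {Y : Scheme.{u}} (f : X ⟶ Y) [IsAffineHom f]
    (J : Type u) [SmallCategory J] :
    PreservesColimitsOfShape J ((QCohCat.isQCoh X).ι ⋙ Scheme.Modules.pushforward f) := by
  have := preservesColimits_pushQ_affine f J
  have h : PreservesColimitsOfShape J (pushQ f ⋙ (QCohCat.isQCoh Y).ι) := inferInstance
  exact h

end K355
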