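import Groth.Agent.FunMor.K355.FMBase
import Groth.Agent.FunMor.K355.SecQ
import Groth.Agent.PerfB.ResolQC

/-!
# Exactness of `M ↦ q_* (p^* M ⊗ K)` for `q` affine
-/

set_option autoImplicit false
universe u
open CategoryTheory CategoryTheory.Limits AlgebraicGeometry

namespace K355

variable {X Y P : Scheme.{u}} (p : P ⟶ X) (q : P ⟶ Y) (K : P.Modules)

theorem preservesColimits_tensorRightMod (J : Type u) [SmallCategory J] :
    PreservesColimitsOfShape J (DCoh.tensorRightMod K) := by
  have : PreservesColimitsOfSize.{u, u} (DCoh.tensorRightMod K) :=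
    preservesColimits_of_natIso (Groth.Agent.Models2.FMExact.tensorRightModIso K)
  infer_instance

/-- `M ↦ p^* M ⊗ K` preserves colimits. -/
theorem preservesColimits_pullTens (J : Type u) [SmallCategory J] :
    PreservesColimitsOfShape J (Scheme.Modules.pullback p ⋙ DCoh.tensorRightMod K) := by
  have := preservesColimits_tensorRightMod K J
  have : PreservesColimitsOfShape J (Scheme.Modules.pullback p) :=
    (Scheme.Modules.pullbackPushforwardAdjunction p).leftAdjoint_preservesColimits.1
  infer_instance

/-- The functor `M ↦ p^* M ⊗ K` on quasi-coherent modules. -/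
noncomputable abbrev pullTensQ (hK : Coh.IsQCoh K) : QCohCat.QCoh X ⥤ QCohCat.QCoh P :=
  (QCohCat.isQCoh P).lift ((QCohCat.isQCoh X).ι ⋙ Scheme.Modules.pullback p ⋙
    DCoh.tensorRightMod K)
    (fun M => Groth.Agent.Ega1.TensorRestrict.isQCoh_tensorMod _ K
      (isQCoh_pull p M.obj M.property) hK)

theorem preservesColimits_pullTensQ (hK : Coh.IsQCoh K) (J : Type u) [SmallCategory J] :
    PreservesColimitsOfShape J (pullTensQ p K hK) := by
  have := preservesColimits_pullTens p K J
  have h : PreservesColimitsOfShape J (pullTensQ p K hK ⋙ (QCohCat.isQCoh P).ι) := by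
    have h : PreservesColimitsOfShape J ((QCohCat.isQCoh X).ι ⋙
      (Scheme.Modules.pullback p ⋙ DCoh.tensorRightMod K)) := inferInstance
    exact h
  exact preservesColimitsOfShape_of_reflects_of_preserves _ (QCohCat.isQCoh P).ι

/-- `M ↦ q_* (p^* M ⊗ K)` preserves colimits if `q` is affine. -/
theorem preservesColimits_FM_affine [IsAffineHom q] (hK : Coh.IsQCoh K) (J : Type u)
    [SmallCategory J] : PreservesColimitsOfShape J ((QCohCat.isQCoh X).ι ⋙ FM p q K) := by
  have := preservesColimits_pullTensQ p K hK J
  have := preservesColimits_push_affine q J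
  have h : PreservesColimitsOfShape J
    (pullTensQ p K hK ⋙ ((QCohCat.isQCoh P).ι ⋙ Scheme.Modules.pushforward q)) := inferInstance
  exact h

/-- From small colimits to finite colimits. -/
theorem preservesFiniteColimits_of_small {C : Type*} [Category* C] {D : Type*} [Category* D]
    (F : C ⥤ D) (h : ∀ (J : Type u) [SmallCategory J], PreservesColimitsOfShape J F) :
    PreservesFiniteColimits F := by
  have : PreservesColimitsOfSize.{u, u} F := ⟨fun {J} _ => h J⟩
  exact PreservesColimitsOfSize.preservesFiniteColimits F

end K355
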