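import Groth.Agent.CohqA.AffineBaseChange
import Groth.Prelude.Def_QCohCat
import Groth.Prelude.Def_Coh

/-!
# The base change map as a natural transformation; affine base change
-/

set_option autoImplicit false
universe u
open CategoryTheory CategoryTheory.Limits AlgebraicGeometry

namespace K355

open Groth.Agent.CohqA.AffineBaseChange Groth.Agent.CohqA.PullbackUniv
open Groth.Agent.CohqA.PullbackSections

variable {X S X' S' : Scheme.{u}} (f : X ⟶ S) (g : S' ⟶ S) (g' : X' ⟶ X) (f' : X' ⟶ S')

theorem pushSquare_naturality (w : g' ≫ f = f' ≫ g) {M N : X.Modules} (φ : M ⟶ N) :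
    (Scheme.Modules.pushforward f).map φ ≫ pushSquare f g g' f' w (pbUnit g' N) =
      pushSquare f g g' f' w (pbUnit g' M) ≫ (Scheme.Modules.pushforward g).map
        ((Scheme.Modules.pushforward f').map ((Scheme.Modules.pullback g').map φ)) := by
  have h0 : φ ≫ pbUnit g' N = pbUnit g' M ≫ (Scheme.Modules.pushforward g').map
      ((Scheme.Modules.pullback g').map φ) :=
    (Scheme.Modules.pullbackPushforwardAdjunction g').unit.naturality φ
  have h4 : (Scheme.Modules.pushforward f).map φ ≫
      (Scheme.Modules.pushforward f).map (pbUnit g' N) =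
      (Scheme.Modules.pushforward f).map (pbUnit g' M) ≫
        (Scheme.Modules.pushforward f).map ((Scheme.Modules.pushforward g').map
          ((Scheme.Modules.pullback g').map φ)) := by
    rw [← Functor.map_comp, h0, Functor.map_comp]
  have key : ∀ {A B : X'.Modules} (L : A ⟶ B),
      (Scheme.Modules.pushforward f).map ((Scheme.Modules.pushforward g').map L) ≫
        (Scheme.Modules.pushforwardComp g' f).hom.app B ≫
          (Scheme.Modules.pushforwardCongr w).hom.app B ≫
            (Scheme.Modules.pushforwardComp f' g).inv.app B =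
      (Scheme.Modules.pushforwardComp g' f).hom.app A ≫
          (Scheme.Modules.pushforwardCongr w).hom.app A ≫
            (Scheme.Modules.pushforwardComp f' g).inv.app A ≫
      (Scheme.Modules.pushforward g).map ((Scheme.Modules.pushforward f').map L) := fun L =>
    (((Scheme.Modules.pushforwardComp g' f).hom ≫
      (Scheme.Modules.pushforwardCongr w).hom ≫
        (Scheme.Modules.pushforwardComp f' g).inv).naturality L).trans (by
          simp only [NatTrans.comp_app, Category.assoc, Functor.comp_map])
  unfold pushSquare
  rw [reassoc_of% h4, key]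
  simp only [Category.assoc]

/-- The base change map. -/
noncomputable def bcMap (w : g' ≫ f = f' ≫ g) :
    Scheme.Modules.pushforward f ⋙ Scheme.Modules.pullback g ⟶
      Scheme.Modules.pullback g' ⋙ Scheme.Modules.pushforward f' where
  app M := ((Scheme.Modules.pullbackPushforwardAdjunction g).homEquiv _ _).symm
    (pushSquare f g g' f' w (pbUnit g' M))
  naturality M N φ := by
    have h1 := (Scheme.Modules.pullbackPushforwardAdjunction g).homEquiv_naturality_left_symm
      ((Scheme.Modules.pushforward f).map φ) (pushSquare f g g' f' w (pbUnit g' N))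
    have h2 := (Scheme.Modules.pullbackPushforwardAdjunction g).homEquiv_naturality_right_symm
      (pushSquare f g g' f' w (pbUnit g' M))
      ((Scheme.Modules.pushforward f').map ((Scheme.Modules.pullback g').map φ))
    refine Eq.trans h1.symm (Eq.trans ?_ h2)
    rw [pushSquare_naturality]

theorem isIso_bcMap_iff (w : g' ≫ f = f' ≫ g) (M : X.Modules) :
    IsIso ((bcMap f g g' f' w).app M) ↔ IsUniv g (pushSquare f g g' f' w (pbUnit g' M)) :=
  (isUniv_iff_isIso g _).symm

theorem isIso_bcMap_affine (h : IsPullback g' f' f g) [IsAffineHom f] (M : X.Modules)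
    (hM : Coh.IsQCoh M) : IsIso ((bcMap f g g' f' h.w).app M) := by
  have hM' : M.IsQuasicoherent := hM
  exact (isIso_bcMap_iff f g g' f' h.w M).2 (isUniv_pushSquare h _ (isUniv_pbUnit g' M))

/-- Affine base change, naturally. -/
noncomputable def bcAffIso (h : IsPullback g' f' f g) [IsAffineHom f] :
    (QCohCat.isQCoh X).ι ⋙ Scheme.Modules.pushforward f ⋙ Scheme.Modules.pullback g ≅
      (QCohCat.isQCoh X).ι ⋙ Scheme.Modules.pullback g' ⋙ Scheme.Modules.pushforward f' :=
  haveI : IsIso (Functor.whiskerLeft (QCohCat.isQCoh X).ι (bcMap f g g' f' h.w)) := by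
    have : ∀ M, IsIso ((Functor.whiskerLeft (QCohCat.isQCoh X).ι
        (bcMap f g g' f' h.w)).app M) := fun M =>
      isIso_bcMap_affine f g g' f' h M.obj M.property
    exact NatIso.isIso_of_isIso_app _
  asIso (Functor.whiskerLeft (QCohCat.isQCoh X).ι (bcMap f g g' f' h.w))

end K355
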