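import Mathlib.RingTheory.Support
import Mathlib.RingTheory.Nakayama
import Mathlib.RingTheory.Ideal.Quotient.ChineseRemainder
import Mathlib.RingTheory.Length
import Mathlib.LinearAlgebra.TensorProduct.Quotient

/-! Counting maximal points of the support of a finite module which is a quotient (over a smaller ring) of a module
with `r` generators. -/

set_option autoImplicit false
universe u

namespace K355.Cnt

open TensorProduct

variable {B A : Type u} [CommRing B] [CommRing A] [Algebra B A]

/-- Nakayama: `N / n N` is not zero if `n` is a point of the support of the finite module `N`. -/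
theorem nontrivial_quot {N : Type u} [AddCommGroup N] [Module A N] [Module.Finite A N] (n : PrimeSpectrum A)
    (hn : n ∈ Module.support A N) : Nontrivial ((A ⧸ n.asIdeal) ⊗[A] N) := by
  rw [(TensorProduct.quotTensorEquivQuotSMul N n.asIdeal).toEquiv.nontrivial_congr,
    Submodule.Quotient.nontrivial_iff]
  intro h
  obtain ⟨a, ha, h0⟩ := Submodule.exists_sub_one_mem_and_smul_eq_zero_of_fg_of_le_smul n.asIdeal
    (⊤ : Submodule A N) Module.Finite.fg_top h.ge
  rw [Module.support_eq_zeroLocus, PrimeSpectrum.mem_zeroLocus] at hn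
  have ha' : a ∈ n.asIdeal := hn (Module.mem_annihilator.2 fun x => h0 x trivial)
  exact n.2.ne_top ((Ideal.eq_top_iff_one _).2 (by simpa using n.asIdeal.sub_mem ha' ha))

theorem card_le (m : Ideal B) [m.IsMaximal] {E N : Type u} [AddCommGroup E] [Module B E]
    [AddCommGroup N] [Module B N] [Module A N] [IsScalarTower B A N] [Module.Finite A N]
    (r : ℕ) (gen : Fin r → E) (hgen : Submodule.span B (Set.range gen) = ⊤)
    (φ : E →ₗ[B] N) (hφ : Function.Surjective φ) (S : Finset (PrimeSpectrum A))
    (hS : ∀ n ∈ S, n.asIdeal.IsMaximal ∧ n.asIdeal.comap (algebraMap B A) = m ∧ n ∈ Module.support A N) :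
    S.card ≤ r := by
  classical
  -- Chinese remainder theorem
  have hI : Pairwise (Function.onFun IsCoprime fun n : S => (n : PrimeSpectrum A).asIdeal) := by
    intro n n' hne
    have h1 := (hS _ n.2).1
    have h2 := (hS _ n'.2).1
    exact (Ideal.isCoprime_iff_sup_eq.2 (h1.coprime_of_ne h2 fun h => hne (Subtype.ext (PrimeSpectrum.ext h))))
  have hc := Ideal.pi_tensorProductMk_quotient_surjective N (fun n : S => (n : PrimeSpectrum A).asIdeal) hI
  set V : S → Type u := fun n => (A ⧸ (n : PrimeSpectrum A).asIdeal) ⊗[A] N with hV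
  let θ : E →ₗ[B] (∀ n : S, V n) :=
    ((LinearMap.pi fun n : S => TensorProduct.mk A (A ⧸ (n : PrimeSpectrum A).asIdeal) N 1).restrictScalars B).comp φ
  have hθ : Function.Surjective θ := hc.comp hφ
  -- everything is killed by `m`
  have hm : ∀ (n : S) (b : B), b ∈ m → ∀ x : V n, b • x = 0 := by
    intro n b hb x
    have hb' : algebraMap B A b ∈ (n : PrimeSpectrum A).asIdeal := by
      have := (hS _ n.2).2.1
      rw [← this] at hb
      exact hb
    rw [← algebraMap_smul A b x]
    induction x using TensorProduct.induction_on with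
    | zero => simp
    | tmul y z =>
      obtain ⟨y, rfl⟩ := Ideal.Quotient.mk_surjective y
      rw [TensorProduct.smul_tmul']
      have : (algebraMap B A b) • (Ideal.Quotient.mk (n : PrimeSpectrum A).asIdeal y) = 0 := by
        rw [Algebra.smul_def]
        have : algebraMap A (A ⧸ (n : PrimeSpectrum A).asIdeal) (algebraMap B A b) = 0 :=
          Ideal.Quotient.eq_zero_iff_mem.2 hb'
        rw [this, zero_mul]
      rw [this, TensorProduct.zero_tmul]
    | add y z hy hz => rw [smul_add, hy, hz, add_zero]
  -- the surjection from a free module over `B / m`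
  let ψ : (Fin r → B ⧸ m) →ₗ[B] (∀ n : S, V n) :=
    LinearMap.lsum B (fun _ => B ⧸ m) ℕ fun i =>
      m.liftQ (LinearMap.toSpanSingleton B _ (θ (gen i))) fun b hb => by
        rw [LinearMap.mem_ker, LinearMap.toSpanSingleton_apply]
        ext n
        exact hm n b hb _
  have hψ : Function.Surjective ψ := by
    intro w
    obtain ⟨e, rfl⟩ := hθ w
    have he : e ∈ Submodule.span B (Set.range gen) := hgen ▸ trivial
    obtain ⟨c, rfl⟩ := (Submodule.mem_span_range_iff_exists_fun B).1 he
    refine ⟨fun i => Ideal.Quotient.mk m (c i), ?_⟩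
    simp only [ψ, LinearMap.lsum_apply, LinearMap.sum_apply, LinearMap.comp_apply, LinearMap.proj_apply, map_sum, map_smul]
    rfl
  have h1 := Module.length_le_of_surjective ψ hψ
  rw [Module.length_pi_of_fintype, Module.length_pi_of_fintype] at h1
  have : IsSimpleModule B (B ⧸ m) := isSimpleModule_iff_isCoatom.2 (Ideal.isMaximal_def.1 inferInstance)
  simp only [Module.length_eq_one, Finset.sum_const, Finset.card_univ, Fintype.card_fin] at h1
  have h2 : ∑ _n : S, (1 : ℕ∞) ≤ ∑ n : S, Module.length B (V n) := by
    refine Finset.sum_le_sum fun n _ => ?_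
    have : Nontrivial (V n) := nontrivial_quot _ (hS _ n.2).2.2
    exact Order.one_le_iff_pos.2 Module.length_pos
  have h3 := h2.trans h1
  simp only [Finset.sum_const, Finset.card_univ, Fintype.card_coe, nsmul_eq_mul, mul_one] at h3
  exact_mod_cast h3

end K355.Cnt
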