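import Groth.Agent.FunMor.K355.FPMod

/-!
# Kernels of morphisms of finitely presented modules over a coherent ring
-/

set_option autoImplicit false
universe u v' u'
open CategoryTheory CategoryTheory.Limits

namespace K355

variable {A : Type u} [CommRing A] (hcoh : ∀ I : Ideal A, I.FG → Module.FinitePresentation A I)

include hcoh in
theorem fp_of_fg_pi (n : ℕ) : ∀ N : Submodule A (Fin n → A), N.FG →
    Module.FinitePresentation A N := by
  induction n with
  | zero =>
    intro N hN
    have : Subsingleton N := inferInstance
    have : Module.Finite A N := Module.Finite.of_fg hN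
    have : Module.Free A N := inferInstance
    exact Module.finitePresentation_of_projective A N
  | succ n ih =>
    intro N hN
    let e : (Fin (n + 1) → A) ≃ₗ[A] A × (Fin n → A) := Fin.consLinearEquiv A (fun _ => A) |>.symm
    let N' : Submodule A (A × (Fin n → A)) := N.map e.toLinearMap
    have hN' : N'.FG := hN.map _
    have hfinN' : Module.Finite A N' := Module.Finite.of_fg hN'
    suffices h : Module.FinitePresentation A N' by
      exact Module.FinitePresentation.of_equiv (e.submoduleMap N).symm
    -- the projection to the first coordinate
    let p : N' →ₗ[A] A := (LinearMap.fst A A (Fin n → A)).comp N'.subtype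
    let I : Ideal A := LinearMap.range p
    have hI : I.FG := by
      rw [show I = (⊤ : Submodule A N').map p from LinearMap.range_eq_map p]
      exact Module.Finite.fg_top.map _
    have hIfp := hcoh I hI
    let p' : N' →ₗ[A] I := p.rangeRestrict
    have hp' : Function.Surjective p' := LinearMap.surjective_rangeRestrict p
    have hker : (LinearMap.ker p').FG := Module.FinitePresentation.fg_ker p' hp'
    -- the kernel embeds in `A^n`
    let j : LinearMap.ker p' →ₗ[A] (Fin n → A) :=
      (LinearMap.snd A A (Fin n → A)).comp (N'.subtype.comp (LinearMap.ker p').subtype)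
    have hj : Function.Injective j := by
      intro x y hxy
      have hx : (x.1.1).1 = 0 := congrArg Subtype.val x.2
      have hy : (y.1.1).1 = 0 := congrArg Subtype.val y.2
      exact Subtype.ext (Subtype.ext (Prod.ext (hx.trans hy.symm) hxy))
    have hfinK : Module.Finite A (LinearMap.ker p') := Module.Finite.of_fg hker
    have hR : (LinearMap.range j).FG := by
      rw [LinearMap.range_eq_map]
      exact Module.Finite.fg_top.map _
    have := ih _ hR
    have hK : Module.FinitePresentation A (LinearMap.ker p') :=
      Module.FinitePresentation.of_equiv (M := LinearMap.range j) (N := LinearMap.ker p')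
        (LinearEquiv.ofInjective j hj).symm
    exact Module.finitePresentation_of_ker p' hp'

include hcoh in
/-- Finitely generated submodules of finitely presented modules over a coherent ring. -/
theorem fp_of_fg {M : Type u} [AddCommGroup M] [Module A M] [Module.FinitePresentation A M]
    (N : Submodule A M) (hN : N.FG) : Module.FinitePresentation A N := by
  obtain ⟨n, m, f, g, hf, hfg⟩ := Module.FinitePresentation.exists_fin' A M
  have hker : (LinearMap.ker f).FG := Module.FinitePresentation.fg_ker f hf
  have h1 : (N.comap f).FG := by
    refine Submodule.fg_of_fg_map_of_fg_inf_ker f ?_ ?_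
    · rwa [Submodule.map_comap_eq_of_surjective hf]
    · rwa [inf_eq_right.mpr]
      exact LinearMap.ker_le_comap f
  have := fp_of_fg_pi hcoh n _ h1
  let f' : N.comap f →ₗ[A] N := f.restrict (fun x hx => hx)
  have hf' : Function.Surjective f' := by
    rintro ⟨y, hy⟩
    obtain ⟨x, rfl⟩ := hf y
    exact ⟨⟨x, hy⟩, rfl⟩
  refine Module.finitePresentation_of_surjective f' hf' ?_
  have h2 : (LinearMap.ker f').map (N.comap f).subtype = LinearMap.ker f := by
    ext x
    constructor
    · rintro ⟨y, hy, rfl⟩
      exact congrArg Subtype.val hy
    · intro hx
      refine ⟨⟨x, ?_⟩, Subtype.ext hx, rfl⟩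
      change f x ∈ N
      rw [LinearMap.mem_ker.mp hx]
      exact N.zero_mem
  have h3 := hker
  rw [← h2] at h3
  exact Submodule.fg_of_fg_map_injective _ (Submodule.injective_subtype _) h3

include hcoh in
theorem FP.isClosedUnderKernels : (FP A).IsClosedUnderKernels where
  kernels_le := by
    rintro _ ⟨f, k, hk, hf⟩
    rename_i X₁ X₂
    have h1 : Module.FinitePresentation A X₁ := hf.1
    have h2 : Module.FinitePresentation A X₂ := hf.2
    have e := hk.conePointUniqueUpToIso (ModuleCat.kernelIsLimit f)
    have hR : (LinearMap.range f.hom).FG := by
      rw [LinearMap.range_eq_map]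
      exact Module.Finite.fg_top.map _
    have h3 := fp_of_fg hcoh _ hR
    have h4 : (LinearMap.ker f.hom.rangeRestrict).FG :=
      Module.FinitePresentation.fg_ker _ (LinearMap.surjective_rangeRestrict f.hom)
    rw [LinearMap.ker_rangeRestrict] at h4
    have h5 : Module.FinitePresentation A (ModuleCat.kernelCone f).pt := fp_of_fg hcoh _ h4
    exact Module.FinitePresentation.of_equiv (N := k.pt) e.symm.toLinearEquiv

end K355
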