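import Groth.Agent.FunMor.K355.OpenPB
import Groth.Agent.Ega3B.ProjFrame

/-!
# The triple fibre product `T × X × Y`
-/

set_option autoImplicit false
universe u
open CategoryTheory CategoryTheory.Limits AlgebraicGeometry TopologicalSpace

namespace K355

section

variable {C : Type*} [Category* C] [HasPullbacks C] {T X Y S : C} (t : T ⟶ S) (x : X ⟶ S) (y : Y ⟶ S)

/-- `T × X × Y`. -/
noncomputable abbrev triple : C := pullback (pullback.snd t x) (pullback.fst x y)

theorem isPullback_triple (pr : triple t x y ⟶ pullback t y)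
    (h₁ : pr ≫ pullback.fst t y = pullback.fst _ _ ≫ pullback.fst t x)
    (h₂ : pr ≫ pullback.snd t y = pullback.snd _ _ ≫ pullback.snd x y) :
    IsPullback (pullback.fst _ _ ≫ pullback.snd t x : triple t x y ⟶ X) pr x
      (pullback.fst t y ≫ t) := by
  refine isPullback_of_exists ?_ ?_ ?_
  · rw [reassoc_of% h₁, Category.assoc, pullback.condition]
  · intro Z s g hsg
    let l₁ : Z ⟶ pullback t x := pullback.lift (g ≫ pullback.fst t y) s (by
      rw [Category.assoc, ← hsg])
    let l₂ : Z ⟶ pullback x y := pullback.lift s (g ≫ pullback.snd t y) (by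
      rw [hsg, Category.assoc, pullback.condition])
    refine ⟨pullback.lift l₁ l₂ ?_, ?_, ?_⟩
    · rw [pullback.lift_snd, pullback.lift_fst]
    · rw [pullback.lift_fst_assoc, pullback.lift_snd]
    · refine pullback.hom_ext ?_ ?_
      · rw [Category.assoc, h₁, pullback.lift_fst_assoc, pullback.lift_fst]
      · rw [Category.assoc, h₂, pullback.lift_snd_assoc, pullback.lift_snd]
  · intro Z l l₁ h3 h4
    have h5 : l ≫ pullback.fst (pullback.snd t x) (pullback.fst x y) ≫ pullback.fst t x =
        l₁ ≫ pullback.fst (pullback.snd t x) (pullback.fst x y) ≫ pullback.fst t x := by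
      rw [← h₁, reassoc_of% h4]
    have h6 : l ≫ pullback.snd (pullback.snd t x) (pullback.fst x y) ≫ pullback.snd x y =
        l₁ ≫ pullback.snd (pullback.snd t x) (pullback.fst x y) ≫ pullback.snd x y := by
      rw [← h₂, reassoc_of% h4]
    have h7 : l ≫ pullback.snd (pullback.snd t x) (pullback.fst x y) ≫ pullback.fst x y =
        l₁ ≫ pullback.snd (pullback.snd t x) (pullback.fst x y) ≫ pullback.fst x y := by
      rw [← pullback.condition, h3]
    refine pullback.hom_ext ?_ ?_
    · refine pullback.hom_ext ?_ ?_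
      · simpa only [Category.assoc] using h5
      · simpa only [Category.assoc] using h3
    · refine pullback.hom_ext ?_ ?_
      · simpa only [Category.assoc] using h7
      · simpa only [Category.assoc] using h6

end

section

variable {T X Y S : Scheme.{u}} (t : T ⟶ S) (x : X ⟶ S) (y : Y ⟶ S)

theorem preimage_triple (pr : triple t x y ⟶ pullback t y)
    (h₁ : pr ≫ pullback.fst t y = pullback.fst _ _ ≫ pullback.fst t x)
    (h₂ : pr ≫ pullback.snd t y = pullback.snd _ _ ≫ pullback.snd x y) (T₀ : T.Opens)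
    (Y₀ : Y.Opens) :
    pr ⁻¹ᵁ (pullback.fst t y ⁻¹ᵁ T₀ ⊓ pullback.snd t y ⁻¹ᵁ Y₀) =
      pullback.fst (pullback.snd t x) (pullback.fst x y) ⁻¹ᵁ (pullback.fst t x ⁻¹ᵁ T₀) ⊓
        pullback.snd (pullback.snd t x) (pullback.fst x y) ⁻¹ᵁ (pullback.snd x y ⁻¹ᵁ Y₀) := by
  rw [Scheme.Hom.preimage_inf, ← Scheme.Hom.comp_preimage, ← Scheme.Hom.comp_preimage, h₁, h₂,
    Scheme.Hom.comp_preimage, Scheme.Hom.comp_preimage]

theorem iSup_products : (⨆ i : T.affineOpens × Y.affineOpens,
    (pullback.fst t y ⁻¹ᵁ i.1.1 ⊓ pullback.snd t y ⁻¹ᵁ i.2.1 : (pullback t y).Opens)) = ⊤ := by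
  rw [eq_top_iff]
  intro z _
  obtain ⟨U, hU, hz, -⟩ := exists_isAffineOpen_mem_and_subset (U := (⊤ : T.Opens))
    (x := pullback.fst t y z) trivial
  obtain ⟨V, hV, hz', -⟩ := exists_isAffineOpen_mem_and_subset (U := (⊤ : Y.Opens))
    (x := pullback.snd t y z) trivial
  exact Opens.mem_iSup.2 ⟨(⟨U, hU⟩, ⟨V, hV⟩), hz, hz'⟩

theorem isAffineHom_part [IsAffine S] (T₀ : T.affineOpens) :
    IsAffineHom ((pullback.fst t x ⁻¹ᵁ T₀.1).ι ≫ pullback.snd t x) := by
  have : IsAffine T₀.1.toScheme := T₀.2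
  have h0 : IsAffineHom (T₀.1.ι ≫ t) := inferInstance
  have h1 := (isPullback_morphismRestrict (pullback.fst t x) T₀.1).flip.paste_horiz
    (IsPullback.of_hasPullback t x).flip
  exact MorphismProperty.of_isPullback h1.flip h0

end

end K355
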