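import Groth.Agent.FunMor.K355.FMExactFlat
import Groth.Agent.FunMor.K355.TripleProd
import Groth.Agent.CycB.ClosedDev
import Groth.Agent.S1391
import Groth.Agent.S0033
import Groth.Agent.PerfC.PullRestrict
import Groth.Agent.Sga67.TensorOps

/-!
# The kernel is a quotient of `p₂^* p₂_* K`
-/

set_option autoImplicit false
universe u
open CategoryTheory CategoryTheory.Limits AlgebraicGeometry TopologicalSpace

namespace K355

section

variable {C : Type*} [Category* C] [HasPullbacks C] {X Y S : C} (x : X ⟶ S) (y : Y ⟶ S)

/-- The projection to the outer factors. -/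
noncomputable abbrev pr13 : triple x x y ⟶ pullback x y :=
  pullback.lift (pullback.fst _ _ ≫ pullback.fst x x) (pullback.snd _ _ ≫ pullback.snd x y) (by
    rw [Category.assoc, Category.assoc, ← pullback.condition (f := x) (g := y),
      pullback.condition (f := x) (g := x), pullback.condition_assoc])

theorem pr13_fst : pr13 x y ≫ pullback.fst x y = pullback.fst _ _ ≫ pullback.fst x x :=
  pullback.lift_fst _ _ _

theorem pr13_snd : pr13 x y ≫ pullback.snd x y = pullback.snd _ _ ≫ pullback.snd x y :=
  pullback.lift_snd _ _ _

/-- `Δ × 1`. -/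
noncomputable abbrev diag13 : pullback x y ⟶ triple x x y :=
  pullback.lift (pullback.fst x y ≫ pullback.diagonal x) (𝟙 _) (by
    rw [Category.assoc, pullback.diagonal_snd, Category.comp_id, Category.id_comp])

theorem diag13_pr13 : diag13 x y ≫ pr13 x y = 𝟙 _ := by
  refine pullback.hom_ext ?_ ?_
  · rw [Category.assoc, pr13_fst, pullback.lift_fst_assoc, Category.assoc, pullback.diagonal_fst,
      Category.comp_id, Category.id_comp]
  · rw [Category.assoc, pr13_snd, pullback.lift_snd_assoc]

theorem isPullback_diag13 : IsPullback (pullback.fst x y) (diag13 x y) (pullback.diagonal x)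
    (pullback.fst (pullback.snd x x) (pullback.fst x y)) := by
  refine isPullback_of_exists ?_ ?_ ?_
  · rw [pullback.lift_fst]
  · intro Z s t hst
    refine ⟨t ≫ pullback.snd _ _, ?_, ?_⟩
    · rw [Category.assoc, ← pullback.condition, ← reassoc_of% hst, pullback.diagonal_snd,
        Category.comp_id]
    · refine pullback.hom_ext ?_ ?_
      · rw [Category.assoc, pullback.lift_fst, Category.assoc, ← pullback.condition_assoc,
          ← reassoc_of% hst, pullback.diagonal_snd_assoc, hst]
      · rw [Category.assoc, pullback.lift_snd, Category.comp_id]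
  · intro Z l m _ h2
    have := h2 =≫ pullback.snd _ _
    rwa [Category.assoc, Category.assoc, pullback.lift_snd, Category.comp_id,
      Category.comp_id] at this

theorem isPullback_pr13 : IsPullback (pullback.snd (pullback.snd x x) (pullback.fst x y))
    (pr13 x y) (pullback.snd x y) (pullback.snd x y) := by
  refine isPullback_of_exists ?_ ?_ ?_
  · rw [pr13_snd]
  · intro Z s t hst
    have h0 : (t ≫ pullback.fst x y) ≫ x = (s ≫ pullback.fst x y) ≫ x := by
      rw [Category.assoc, Category.assoc, pullback.condition, ← reassoc_of% hst]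
    refine ⟨pullback.lift (pullback.lift (t ≫ pullback.fst x y) (s ≫ pullback.fst x y) h0) s ?_,
      ?_, ?_⟩
    · rw [pullback.lift_snd]
    · rw [pullback.lift_snd]
    · refine pullback.hom_ext ?_ ?_
      · rw [Category.assoc, pr13_fst, pullback.lift_fst_assoc, pullback.lift_fst]
      · rw [Category.assoc, pr13_snd, pullback.lift_snd_assoc, hst]
  · intro Z l m h1 h2
    refine pullback.hom_ext (pullback.hom_ext ?_ ?_) h1
    · have := h2 =≫ pullback.fst _ _
      rwa [Category.assoc, Category.assoc, pr13_fst, ← Category.assoc, ← Category.assoc] at this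
    · rw [Category.assoc, Category.assoc, pullback.condition, reassoc_of% h1]

end

section

variable {X Y S : Scheme.{u}} (x : X ⟶ S) (y : Y ⟶ S)

/-- `p₁₃_* (p₁₂^* (Δ_* Δ^* O) ⊗ p₂₃^* K) ≅ K`. -/
theorem nonempty_target [IsSeparated x] (K : (pullback x y).Modules) (hK : Coh.IsQCoh K) :
    Nonempty ((FM (pullback.fst (pullback.snd x x) (pullback.fst x y)) (pr13 x y)
      ((Scheme.Modules.pullback (pullback.snd (pullback.snd x x) (pullback.fst x y))).obj K)).obj
        ((Scheme.Modules.pushforward (pullback.diagonal x)).obj
          ((Scheme.Modules.pullback (pullback.diagonal x)).obj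
            (Coh.structureModule (pullback x x)))) ≅ K) := by
  have hO : Coh.IsQCoh ((Scheme.Modules.pullback (pullback.diagonal x)).obj
      (Coh.structureModule (pullback x x))) :=
    isQCoh_pull _ _ (Groth.Agent.PerfA.QCohSerre.isQCoh_unit _)
  obtain ⟨e⟩ := nonempty_push_FM (pullback.fst (pullback.snd x x) (pullback.fst x y)) (pr13 x y)
    ((Scheme.Modules.pullback (pullback.snd (pullback.snd x x) (pullback.fst x y))).obj K)
    (isQCoh_pull _ K hK) (pullback.diagonal x) (pullback.fst x y) (𝟙 _) (diag13 x y)
    (isPullback_diag13 x y) (diag13_pr13 x y)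
  let e1 := e.app ⟨_, hO⟩
  let e2 : (FM (pullback.fst x y) (𝟙 (pullback x y)) ((Scheme.Modules.pullback (diag13 x y)).obj
      ((Scheme.Modules.pullback (pullback.snd (pullback.snd x x) (pullback.fst x y))).obj K))).obj
        ((Scheme.Modules.pullback (pullback.diagonal x)).obj
            (Coh.structureModule (pullback x x))) ≅
      (DCoh.tensorBi.obj ((Scheme.Modules.pullback (pullback.fst x y)).obj
        ((Scheme.Modules.pullback (pullback.diagonal x)).obj
            (Coh.structureModule (pullback x x))))).obj ((Scheme.Modules.pullback (diag13 x y)).obj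
      ((Scheme.Modules.pullback (pullback.snd (pullback.snd x x) (pullback.fst x y))).obj K)) :=
    (Scheme.Modules.pushforwardId _).app _
  let eO : (Scheme.Modules.pullback (pullback.fst x y)).obj
        ((Scheme.Modules.pullback (pullback.diagonal x)).obj
            (Coh.structureModule (pullback x x))) ≅ Coh.structureModule (pullback x y) :=
    (Scheme.Modules.pullback (pullback.fst x y)).mapIso
      (Groth.Agent.PerfC.PullRestrict.pullbackUnit (pullback.diagonal x)) ≪≫
      Groth.Agent.PerfC.PullRestrict.pullbackUnit (pullback.fst x y)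
  let eK : (Scheme.Modules.pullback (diag13 x y)).obj
      ((Scheme.Modules.pullback (pullback.snd (pullback.snd x x) (pullback.fst x y))).obj K) ≅ K :=
    (pullIso (diag13 x y) (pullback.snd (pullback.snd x x) (pullback.fst x y)) (𝟙 _)
      (pullback.lift_snd _ _ _)).app K ≪≫ (Scheme.Modules.pullbackId _).app K
  let e3 : (DCoh.tensorBi.obj ((Scheme.Modules.pullback (pullback.fst x y)).obj
        ((Scheme.Modules.pullback (pullback.diagonal x)).obj
            (Coh.structureModule (pullback x x))))).obj ((Scheme.Modules.pullback (diag13 x y)).obj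
      ((Scheme.Modules.pullback (pullback.snd (pullback.snd x x) (pullback.fst x y))).obj K)) ≅
      (DCoh.tensorBi.obj (Coh.structureModule (pullback x y))).obj K :=
    (DCoh.tensorBi.obj _).mapIso eK ≪≫ (DCoh.tensorBi.mapIso eO).app K
  exact ⟨e1 ≪≫ e2 ≪≫ e3 ≪≫ Groth.Agent.Sga67.TensorOps.tensorUnit K⟩

/-- `p₂^* p₂_* K ≅ p₁₃_* (p₁₂^* O ⊗ p₂₃^* K)`. -/
theorem nonempty_source [QuasiCompact x] [QuasiSeparated x] [Flat x]
    [HasInjectiveResolutions (pullback x y).Modules]
    [HasInjectiveResolutions (triple x x y).Modules]
    (K : (pullback x y).Modules) (hK : Coh.IsQCoh K) :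
    Nonempty ((Scheme.Modules.pullback (pullback.snd x y)).obj
        ((Scheme.Modules.pushforward (pullback.snd x y)).obj K) ≅
      (FM (pullback.fst (pullback.snd x x) (pullback.fst x y)) (pr13 x y)
      ((Scheme.Modules.pullback (pullback.snd (pullback.snd x x) (pullback.fst x y))).obj K)).obj
        (Coh.structureModule (pullback x x))) := by
  have h1 : QuasiCompact (pullback.snd x y) :=
    MorphismProperty.of_isPullback (IsPullback.of_hasPullback _ _) ‹QuasiCompact x›
  have h2 : QuasiSeparated (pullback.snd x y) :=
    MorphismProperty.of_isPullback (IsPullback.of_hasPullback _ _) ‹QuasiSeparated x›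
  have h3 : Flat (pullback.snd x y) :=
    MorphismProperty.of_isPullback (IsPullback.of_hasPullback _ _) ‹Flat x›
  obtain ⟨e⟩ := Groth.Agent.S0033.result _ _ _ _ (isPullback_pr13 x y) K 0
  let e1 : (Scheme.Modules.pullback (pullback.snd x y)).obj
      ((Scheme.Modules.pushforward (pullback.snd x y)).obj K) ≅
      (Scheme.Modules.pushforward (pr13 x y)).obj ((Scheme.Modules.pullback
        (pullback.snd (pullback.snd x x) (pullback.fst x y))).obj K) :=
    (Scheme.Modules.pullback (pullback.snd x y)).mapIso
      ((Scheme.Modules.pushforward (pullback.snd x y)).rightDerivedZeroIsoSelf.app K).symm ≪≫ e ≪≫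
      ((Scheme.Modules.pushforward (pr13 x y)).rightDerivedZeroIsoSelf.app _)
  let e2 : (Scheme.Modules.pullback (pullback.snd (pullback.snd x x) (pullback.fst x y))).obj K ≅
      (DCoh.tensorBi.obj ((Scheme.Modules.pullback
        (pullback.fst (pullback.snd x x) (pullback.fst x y))).obj
          (Coh.structureModule (pullback x x)))).obj ((Scheme.Modules.pullback
            (pullback.snd (pullback.snd x x) (pullback.fst x y))).obj K) :=
    (Groth.Agent.Sga67.TensorOps.tensorUnit _).symm ≪≫
      (DCoh.tensorBi.mapIso (Groth.Agent.PerfC.PullRestrict.pullbackUnit _).symm).app _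
  exact ⟨e1 ≪≫ (Scheme.Modules.pushforward (pr13 x y)).mapIso e2⟩

theorem exists_epi [QuasiCompact x] [IsSeparated x] [Flat x]
    [HasInjectiveResolutions (pullback x y).Modules]
    [HasInjectiveResolutions (triple x x y).Modules]
    (K : (pullback x y).Modules) (hK : Coh.IsQCoh K)
    (hKf : FlatMod.IsFlatOver (pullback.fst x y) K)
    (hKa : ∀ I : (pullback x x).Modules, Coh.IsQCoh I → IsZero ((Coh.Rpush (pr13 x y) 1).obj
      (CohB1.tensorMod
        ((Scheme.Modules.pullback (pullback.fst (pullback.snd x x) (pullback.fst x y))).obj I)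
        ((Scheme.Modules.pullback (pullback.snd (pullback.snd x x) (pullback.fst x y))).obj K)))) :
    ∃ π : CohB1.tensorMod
        ((Scheme.Modules.pullback (pullback.fst x y)).obj (Coh.structureModule X))
        ((Scheme.Modules.pullback (pullback.snd x y)).obj
          ((Coh.push (pullback.snd x y)).obj K)) ⟶ K, Epi π := by
  have hflat : FlatMod.IsFlatOver (pullback.fst (pullback.snd x x) (pullback.fst x y))
      ((Scheme.Modules.pullback (pullback.snd (pullback.snd x x) (pullback.fst x y))).obj K) :=
    fun z => Groth.Agent.S1391.result (pullback.fst x y) _ _ (pullback.snd x x)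
      (IsPullback.of_hasPullback _ _).flip K hK z (hKf _)
  let η : Coh.structureModule (pullback x x) ⟶
      (Scheme.Modules.pushforward (pullback.diagonal x)).obj
        ((Scheme.Modules.pullback (pullback.diagonal x)).obj
            (Coh.structureModule (pullback x x))) :=
    (Groth.Agent.CycB.ClosedDev.ηη (pullback.diagonal x)).app _
  have hη : Epi η := Groth.Agent.CycB.ClosedDev.epi_unit (pullback.diagonal x) _
  let S₀ : ShortComplex (pullback x x).Modules :=
    ShortComplex.mk (kernel.ι η) η (kernel.condition η)
  have hS₀ : S₀.ShortExact :=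
    { exact := ShortComplex.exact_kernel η
      mono_f := inferInstanceAs (Mono (kernel.ι η))
      epi_g := hη }
  have hI : Coh.IsQCoh (kernel η) :=
    Groth.Agent.PerfA.QCohSerre.isQCoh_kernel η (Groth.Agent.PerfA.QCohSerre.isQCoh_unit _)
      (Groth.Agent.Ega1.QcqsPush.isQCoh_pushforward (pullback.diagonal x) _
        (isQCoh_pull _ _ (Groth.Agent.PerfA.QCohSerre.isQCoh_unit _)))
  have h1 := shortExact_FM (pullback.fst (pullback.snd x x) (pullback.fst x y)) (pr13 x y)
    ((Scheme.Modules.pullback (pullback.snd (pullback.snd x x) (pullback.fst x y))).obj K) hflat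
    hKa S₀ hS₀ hI
  have h2 : Epi ((FM (pullback.fst (pullback.snd x x) (pullback.fst x y)) (pr13 x y)
      ((Scheme.Modules.pullback (pullback.snd (pullback.snd x x) (pullback.fst x y))).obj K)).map
        η) := h1.epi_g
  obtain ⟨e1⟩ := nonempty_source x y K hK
  obtain ⟨e2⟩ := nonempty_target x y K hK
  let e0 : CohB1.tensorMod
        ((Scheme.Modules.pullback (pullback.fst x y)).obj (Coh.structureModule X))
        ((Scheme.Modules.pullback (pullback.snd x y)).obj
          ((Coh.push (pullback.snd x y)).obj K)) ≅ (Scheme.Modules.pullback (pullback.snd x y)).obj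
          ((Coh.push (pullback.snd x y)).obj K) :=
    (DCoh.tensorBi.mapIso (Groth.Agent.PerfC.PullRestrict.pullbackUnit (pullback.fst x y))).app
      ((Scheme.Modules.pullback (pullback.snd x y)).obj
          ((Coh.push (pullback.snd x y)).obj K)) ≪≫
      Groth.Agent.Sga67.TensorOps.tensorUnit _
  refine ⟨e0.hom ≫ e1.hom ≫ (FM (pullback.fst (pullback.snd x x) (pullback.fst x y)) (pr13 x y)
      ((Scheme.Modules.pullback (pullback.snd (pullback.snd x x) (pullback.fst x y))).obj K)).map
        η ≫ e2.hom, ?_⟩
  have := epi_comp' h2 (inferInstance : Epi e2.hom)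
  have := epi_comp' (inferInstance : Epi e1.hom) this
  exact epi_comp' (inferInstance : Epi e0.hom) this

end

end K355
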