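import Mathlib.AlgebraicGeometry.Morphisms.Affine

/-!
# Restricting a fibre product to opens
-/

set_option autoImplicit false
universe u
open CategoryTheory CategoryTheory.Limits AlgebraicGeometry TopologicalSpace

namespace K355

theorem isPullback_of_exists {C : Type*} [Category* C] {P A B X : C} {a : P ⟶ A} {b : P ⟶ B}
    {p : A ⟶ X} {r : B ⟶ X} (w : a ≫ p = b ≫ r)
    (h : ∀ {Z : C} (s : Z ⟶ A) (t : Z ⟶ B) (_ : s ≫ p = t ≫ r), ∃ l : Z ⟶ P, l ≫ a = s ∧ l ≫ b = t)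
    (hu : ∀ {Z : C} (l l₁ : Z ⟶ P), l ≫ a = l₁ ≫ a → l ≫ b = l₁ ≫ b → l = l₁) :
    IsPullback a b p r :=
  ⟨⟨w⟩, ⟨PullbackCone.IsLimit.mk _ (fun s => (h s.fst s.snd s.condition).choose)
    (fun s => (h s.fst s.snd s.condition).choose_spec.1)
    (fun s => (h s.fst s.snd s.condition).choose_spec.2)
    (fun s _ h1 h2 => hu _ _ (h1.trans (h s.fst s.snd s.condition).choose_spec.1.symm)
      (h2.trans (h s.fst s.snd s.condition).choose_spec.2.symm))⟩⟩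

variable {P A B X : Scheme.{u}} {a : P ⟶ A} {b : P ⟶ B} {p : A ⟶ X} {r : B ⟶ X}

theorem isPullback_opens (h : IsPullback a b p r) (A₀ : A.Opens) (V : B.Opens) (U : P.Opens)
    (hU : U = a ⁻¹ᵁ A₀ ⊓ b ⁻¹ᵁ V) (a' : U.toScheme ⟶ A₀.toScheme) (b' : U.toScheme ⟶ V.toScheme)
    (ha : a' ≫ A₀.ι = U.ι ≫ a) (hb : b' ≫ V.ι = U.ι ≫ b) :
    IsPullback a' b' (A₀.ι ≫ p) (V.ι ≫ r) := by
  refine isPullback_of_exists (by rw [reassoc_of% ha, reassoc_of% hb, h.w]) ?_ ?_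
  · intro Z s t hst
    let l : Z ⟶ P := h.lift (s ≫ A₀.ι) (t ≫ V.ι) (by simpa only [Category.assoc] using hst)
    have hl1 : l ≫ a = s ≫ A₀.ι := h.lift_fst _ _ _
    have hl2 : l ≫ b = t ≫ V.ι := h.lift_snd _ _ _
    have hr : Set.range l ⊆ Set.range U.ι := by
      rintro _ ⟨z, rfl⟩
      rw [Scheme.Opens.range_ι, hU]
      refine ⟨?_, ?_⟩
      · change a _ ∈ A₀
        rw [← Scheme.Hom.comp_apply, hl1]
        exact (s z).2
      · change b _ ∈ V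
        rw [← Scheme.Hom.comp_apply, hl2]
        exact (t z).2
    have hf : IsOpenImmersion.lift U.ι l hr ≫ U.ι = l := IsOpenImmersion.lift_fac _ _ _
    refine ⟨IsOpenImmersion.lift U.ι l hr, ?_, ?_⟩
    · rw [← cancel_mono A₀.ι, Category.assoc, ha, ← Category.assoc, hf, hl1]
    · rw [← cancel_mono V.ι, Category.assoc, hb, ← Category.assoc, hf, hl2]
  · intro Z l m h1 h2
    rw [← cancel_mono U.ι]
    refine h.hom_ext ?_ ?_
    · rw [Category.assoc, Category.assoc, ← ha, reassoc_of% h1]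
    · rw [Category.assoc, Category.assoc, ← hb, reassoc_of% h2]

/-- Morphisms between opens. -/
theorem exists_lift_opens (f : P ⟶ A) (U : P.Opens) (A₀ : A.Opens) (h : U ≤ f ⁻¹ᵁ A₀) :
    ∃ f' : U.toScheme ⟶ A₀.toScheme, f' ≫ A₀.ι = U.ι ≫ f :=
  ⟨f.resLE A₀ U h, Scheme.Hom.resLE_comp_ι _ _⟩

end K355
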