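import Groth.Agent.FunMor.K355.FMBase
import Groth.Agent.FunMor.K355.OpenPB
import Groth.Agent.Ega3B.RpushAff
import Groth.Agent.Ega3B.ProjFrame
import Groth.Agent.S0012

/-!
# Cohomology of `a^* F ⊗ b^* K` on a fibre product, `a` lying over an affine morphism
-/

set_option autoImplicit false
universe u
open CategoryTheory CategoryTheory.Limits AlgebraicGeometry TopologicalSpace

namespace K355

section

variable {A B P X : Scheme.{u}} {a : P ⟶ A} {b : P ⟶ B} {p : A ⟶ X} {r : B ⟶ X}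

/-- `b_* (a^* F ⊗ b^* K) ≅ r^* (p_* F) ⊗ K`. -/
theorem nonempty_push_tensor (h : IsPullback a b p r) [IsAffineHom p] (F : A.Modules)
    (hF : Coh.IsQCoh F) (K : B.Modules) (hK : Coh.IsQCoh K) :
    Nonempty ((Scheme.Modules.pushforward b).obj (CohB1.tensorMod ((Scheme.Modules.pullback a).obj F)
        ((Scheme.Modules.pullback b).obj K)) ≅
      CohB1.tensorMod ((Scheme.Modules.pullback r).obj ((Scheme.Modules.pushforward p).obj F)) K) := by
  have hb : IsAffineHom b := MorphismProperty.of_isPullback h ‹_›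
  have h1 := isIso_proj_affine b ((Scheme.Modules.pullback a).obj F) K (isQCoh_pull a F hF) hK
  have h2 := isIso_bcMap_affine p r a b h F hF
  let e1 : (DCoh.tensorBi.obj ((Scheme.Modules.pushforward b).obj
      ((Scheme.Modules.pullback a).obj F))).obj K ≅
      (Scheme.Modules.pushforward b).obj (CohB1.tensorMod ((Scheme.Modules.pullback a).obj F)
        ((Scheme.Modules.pullback b).obj K)) :=
    @asIso _ _ _ _ (Groth.Agent.Dcoh.ClosedProj.proj b ((Scheme.Modules.pullback a).obj F) K) h1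
  let e2 : (Scheme.Modules.pullback r).obj ((Scheme.Modules.pushforward p).obj F) ≅
      (Scheme.Modules.pushforward b).obj ((Scheme.Modules.pullback a).obj F) :=
    asIso ((bcMap p r a b h.w).app F)
  exact ⟨e1.symm ≪≫ ((DCoh.tensorBi.mapIso e2).app K).symm⟩

/-- The restriction to opens. -/
theorem nonempty_HHon (h : IsPullback a b p r) (A₀ : A.Opens) (V : B.Opens) (U : P.Opens)
    (hU : U = a ⁻¹ᵁ A₀ ⊓ b ⁻¹ᵁ V) [IsAffineHom (A₀.ι ≫ p)] (F : A.Modules)
    (hF : Coh.IsQCoh F) (K : B.Modules) (hK : Coh.IsQCoh K) (n : ℕ) :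
    Nonempty (Coh.HHon P (CohB1.tensorMod ((Scheme.Modules.pullback a).obj F)
        ((Scheme.Modules.pullback b).obj K)) U n ≃+
      Coh.HHon B (CohB1.tensorMod ((Scheme.Modules.pullback r).obj
        ((Scheme.Modules.pushforward (A₀.ι ≫ p)).obj ((Scheme.Modules.pullback A₀.ι).obj F)))
          K) V n) := by
  obtain ⟨a', ha⟩ := exists_lift_opens a U A₀ (hU ▸ inf_le_left)
  obtain ⟨b', hb⟩ := exists_lift_opens b U V (hU ▸ inf_le_right)
  have hp := isPullback_opens h A₀ V U hU a' b' ha hb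
  have hb' : IsAffineHom b' := MorphismProperty.of_isPullback hp ‹_›
  have hF₀ := isQCoh_pull A₀.ι F hF
  have hK₀ := isQCoh_pull V.ι K hK
  obtain ⟨e⟩ := nonempty_push_tensor hp ((Scheme.Modules.pullback A₀.ι).obj F) hF₀
    ((Scheme.Modules.pullback V.ι).obj K) hK₀
  -- the module on `U`
  let E := CohB1.tensorMod ((Scheme.Modules.pullback a).obj F) ((Scheme.Modules.pullback b).obj K)
  let E' := CohB1.tensorMod ((Scheme.Modules.pullback a').obj ((Scheme.Modules.pullback A₀.ι).obj F))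
    ((Scheme.Modules.pullback b').obj ((Scheme.Modules.pullback V.ι).obj K))
  let eF : (Scheme.Modules.pullback U.ι).obj ((Scheme.Modules.pullback a).obj F) ≅
      (Scheme.Modules.pullback a').obj ((Scheme.Modules.pullback A₀.ι).obj F) :=
    (pullIso U.ι a _ rfl).app F ≪≫ ((pullIso a' A₀.ι _ ha).app F).symm
  let eK : (Scheme.Modules.pullback U.ι).obj ((Scheme.Modules.pullback b).obj K) ≅
      (Scheme.Modules.pullback b').obj ((Scheme.Modules.pullback V.ι).obj K) :=
    (pullIso U.ι b _ rfl).app K ≪≫ ((pullIso b' V.ι _ hb).app K).symm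
  let e1 : E.restrict U.ι ≅ E' :=
    (Scheme.Modules.restrictFunctorIsoPullback U.ι).app E ≪≫
      (muIsoR U.ι ((Scheme.Modules.pullback b).obj K)).app ((Scheme.Modules.pullback a).obj F) ≪≫
      (DCoh.tensorBi.obj _).mapIso eK ≪≫ (DCoh.tensorBi.mapIso eF).app _
  let F' := (Scheme.Modules.pushforward (A₀.ι ≫ p)).obj ((Scheme.Modules.pullback A₀.ι).obj F)
  let e2 : CohB1.tensorMod ((Scheme.Modules.pullback (V.ι ≫ r)).obj F')
      ((Scheme.Modules.pullback V.ι).obj K) ≅
      (CohB1.tensorMod ((Scheme.Modules.pullback r).obj F') K).restrict V.ι :=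
    (DCoh.tensorBi.mapIso ((pullIso V.ι r _ rfl).app F').symm).app _ ≪≫
      ((muIsoR V.ι K).app ((Scheme.Modules.pullback r).obj F')).symm ≪≫
      ((Scheme.Modules.restrictFunctorIsoPullback V.ι).app _).symm
  have hE' : Coh.IsQCoh E' := Groth.Agent.Ega1.TensorRestrict.isQCoh_tensorMod _ _
    (isQCoh_pull _ _ hF₀) (isQCoh_pull _ _ hK₀)
  obtain ⟨q1, -⟩ := Groth.Agent.Ega3B.RpushCmp.exists_equiv_of_iso e1 n
  obtain ⟨q2⟩ := Groth.Agent.S0012.result b' E' n
  obtain ⟨q3, -⟩ := Groth.Agent.Ega3B.RpushCmp.exists_equiv_of_iso (e ≪≫ e2) n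
  exact ⟨(q1.trans q2).trans q3⟩

end

end K355
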