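import Mathlib.CategoryTheory.Limits.Constructions.Filtered
import Mathlib.CategoryTheory.Limits.Preserves.Filtered
import Mathlib.CategoryTheory.Limits.Preserves.Shapes.Products
import Mathlib.CategoryTheory.Limits.Preserves.Finite

/-!
# Functors preserving filtered colimits and finite coproducts preserve all coproducts
-/

set_option autoImplicit false
universe w v u v' u'
open CategoryTheory CategoryTheory.Limits

namespace K355

variable {C : Type u} [Category.{v} C] {B : Type u'} [Category.{v'} B]

set_option backward.isDefEq.respectTransparency false in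
theorem preservesCoproducts_of_filtered (G : C ⥤ B) [HasFiniteCoproducts C]
    [HasFilteredColimitsOfSize.{w, w} C] [PreservesFilteredColimitsOfSize.{w, w} G]
    (hG : ∀ (J : Type w) [Finite J], PreservesColimitsOfShape (Discrete J) G) (α : Type w) :
    PreservesColimitsOfShape (Discrete α) G := by
  classical
  have : HasCoproducts.{w} C := hasCoproducts_of_finite_and_filtered
  have : HasColimitsOfShape (Finset (Discrete α)) C :=
    HasFilteredColimitsOfSize.HasColimitsOfShape _
  have : PreservesColimitsOfShape (Finset (Discrete α)) G :=
    PreservesFilteredColimitsOfSize.preserves_filtered_colimits _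
  have hfin : ∀ (f : α → C), PreservesColimit (Discrete.functor f) G := by
    intro f
    have hc := isColimitOfPreserves G
      (CoproductsFromFiniteFiltered.isColimitFiniteSubproductsCocone f)
    -- finite coproducts are preserved
    have hS : ∀ S : Finset (Discrete α), Nonempty (IsColimit
        (Cofan.mk (G.obj (∐ fun x : S => (Discrete.functor f).obj x))
          (fun x => G.map (Sigma.ι (fun x : S => (Discrete.functor f).obj x) x)))) := by
      intro S
      have := hG S
      exact ⟨isColimitCofanMkObjOfIsColimit G _ _ (coproductIsCoproduct _)⟩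
    let incl : ∀ j : α, (({⟨j⟩} : Finset (Discrete α)) : Type _) := fun j => ⟨⟨j⟩, by simp⟩
    let π : ∀ S : Finset (Discrete α), (∐ fun x : S => (Discrete.functor f).obj x) ⟶ ∐ f :=
      fun S => Sigma.desc fun s => Sigma.ι f _
    have hincl : ∀ (j : α) (S : Finset (Discrete α)) (hj : (⟨j⟩ : Discrete α) ∈ S),
        Sigma.ι (fun x : S => (Discrete.functor f).obj x) ⟨⟨j⟩, hj⟩ ≫ π S = Sigma.ι f j := by
      intro j S hj
      simp [π]
    refine preservesColimit_of_preserves_colimit_cocone (coproductIsCoproduct f) ?_
    refine (isColimitMapCoconeCofanMkEquiv G f (Sigma.ι f)).symm ?_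
    have hext : ∀ {Z : B} (a b : G.obj (∐ f) ⟶ Z),
        (∀ j, G.map (Sigma.ι f j) ≫ a = G.map (Sigma.ι f j) ≫ b) → a = b := by
      intro Z a b hab
      refine hc.hom_ext fun S => ?_
      obtain ⟨hS⟩ := hS S
      change G.map (π S) ≫ a = G.map (π S) ≫ b
      refine Cofan.IsColimit.hom_ext hS _ _ fun ⟨⟨j⟩, hj⟩ => ?_
      have h1 := hab j
      rw [← hincl j S hj, G.map_comp, Category.assoc, Category.assoc] at h1
      exact h1
    have hdesc : ∀ (s : Cofan fun j => G.obj (f j)), ∃ d : G.obj (∐ f) ⟶ s.pt,
        ∀ j, G.map (Sigma.ι f j) ≫ d = s.inj j := by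
      intro s
      let hS' := fun S => (hS S).some
      let φ : ∀ S : Finset (Discrete α),
          G.obj (∐ fun x : S => (Discrete.functor f).obj x) ⟶ s.pt := fun S =>
        Cofan.IsColimit.desc (hS' S) (fun x => s.inj x.1.as)
      have hφ : ∀ (S : Finset (Discrete α)) (x : S),
          G.map (Sigma.ι (fun x : S => (Discrete.functor f).obj x) x) ≫ φ S = s.inj x.1.as :=
        fun S x => Cofan.IsColimit.fac (hS' S) _ x
      let t : Cocone (CoproductsFromFiniteFiltered.liftToFinsetObj (Discrete.functor f) ⋙ G) :=
        { pt := s.pt
          ι := { app := φ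
                 naturality := fun S S' h => by
                  refine Cofan.IsColimit.hom_ext (hS' S) _ _ fun x => ?_
                  let τ : (∐ fun x : S => (Discrete.functor f).obj x) ⟶
                      (∐ fun x : S' => (Discrete.functor f).obj x) :=
                    Sigma.desc fun y => Sigma.ι (fun (x : { x // x ∈ S' }) =>
                      (Discrete.functor f).obj x) ⟨y, h.down.down y.2⟩
                  change G.map (Sigma.ι (fun x : S => (Discrete.functor f).obj x) x) ≫
                    G.map τ ≫ φ S' =
                    G.map (Sigma.ι (fun x : S => (Discrete.functor f).obj x) x) ≫ φ S ≫ 𝟙 _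
                  rw [Category.comp_id, hφ, ← Category.assoc, ← G.map_comp]
                  have : Sigma.ι (fun x : S => (Discrete.functor f).obj x) x ≫ τ =
                      Sigma.ι (fun x : S' => (Discrete.functor f).obj x) ⟨x.1, h.down.down x.2⟩ := by
                    simp [τ]
                  rw [this, hφ] } }
      let d : G.obj (∐ f) ⟶ s.pt := hc.desc t
      refine ⟨d, fun j => ?_⟩
      have h1 : G.map (π {⟨j⟩}) ≫ d = φ {⟨j⟩} := hc.fac t ({Discrete.mk j} : Finset (Discrete α))
      rw [← hincl j {⟨j⟩} (by simp), G.map_comp, Category.assoc, h1]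
      exact hφ {⟨j⟩} (incl j)
    exact Cofan.IsColimit.mk _ (fun s => (hdesc s).choose) (fun s j => (hdesc s).choose_spec j)
      (fun s m hm => hext _ _ fun j => (hm j).trans ((hdesc s).choose_spec j).symm)
  exact preservesColimitsOfShape_of_discrete G

end K355
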