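import Groth.Agent.FunMor.K355.FPGen
import Groth.Agent.FunMor.K355.IndCoprod
import Groth.Agent.FunMor.K355.IndExact
import Groth.Agent.FunMor.K355.CohRing
import Groth.Agent.FunMor.K355.FPWatts
import Mathlib.Algebra.Category.ModuleCat.AB
import Mathlib.CategoryTheory.Preadditive.LeftExact
import Mathlib.CategoryTheory.Preadditive.Biproducts

/-!
# Extensions of functors on finitely presented modules: additivity, exactness, direct sums
-/

set_option autoImplicit false
universe u v' u'
open CategoryTheory CategoryTheory.Limits

namespace K355

variable {A : Type u} [CommRing A] {B : Type u'} [Category.{v'} B] [Preadditive B]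
  (F' : ModuleCat.{u} A ⥤ B) [PreservesFilteredColimitsOfSize.{u, u} F']

theorem preservesCoproducts_of_additive [F'.Additive] (J : Type u) :
    PreservesColimitsOfShape (Discrete J) F' := by
  refine preservesCoproducts_of_filtered F' (fun J _ => ?_) J
  obtain ⟨n, ⟨e⟩⟩ := Finite.exists_equiv_fin J
  have : PreservesFiniteCoproducts F' := inferInstance
  have : PreservesColimitsOfShape (Discrete (Fin n)) F' := PreservesFiniteCoproducts.preserves n
  exact preservesColimitsOfShape_of_equiv (Discrete.equivalence e.symm) F'

theorem additive_ext [((FP A).ι ⋙ F').Additive] : F'.Additive :=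
  IsGen.additive F' isGen_FP

theorem rightExact_ext [HasFiniteBiproducts B] [PreservesFiniteColimits ((FP A).ι ⋙ F')] :
    F'.Additive ∧ PreservesFiniteColimits F' := by
  have := hasFiniteBiproducts_FP A
  have := additive_of_preservesFiniteColimits ((FP A).ι ⋙ F')
  have hadd := additive_ext F'
  refine ⟨hadd, ?_⟩
  have := FP.isClosedUnderCokernels A
  have := fun {M N : ModuleCat.{u} A} (f : M ⟶ N) =>
    IsGen.preservesCokernel F' isGen_FP (P := FP A) (fun f => inferInstance) f
  exact Functor.preservesFiniteColimits_of_preservesCokernels F'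

theorem leftExact_ext [HasFiniteBiproducts B] [HasFilteredColimitsOfSize.{u, u} B]
    (hcoh : ∀ I : Ideal A, I.FG → Module.FinitePresentation A I)
    (hB : ∀ (J : Type u) [SmallCategory J] [IsFiltered J],
      haveI := HasFilteredColimitsOfSize.HasColimitsOfShape (C := B) J
      PreservesLimitsOfShape WalkingParallelPair (colim : (J ⥤ B) ⥤ B))
    [PreservesFiniteLimits ((FP A).ι ⋙ F')] :
    F'.Additive ∧ PreservesFiniteLimits F' := by
  have := hasFiniteBiproducts_FP A
  have := additive_of_preservesFiniteLimits ((FP A).ι ⋙ F')
  have hadd := additive_ext F'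
  refine ⟨hadd, ?_⟩
  have := FP.isClosedUnderKernels hcoh
  have := fun {M N : ModuleCat.{u} A} (f : M ⟶ N) =>
    IsGen.preservesKernel F' isGen_FP (P := FP A) (fun J _ _ => inferInstance) hB
      (fun f => inferInstance) f
  exact Functor.preservesFiniteLimits_of_preservesKernels F'

end K355
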