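import Groth.Agent.FunMor.K355.FPMod
import Groth.Agent.FunMor.K355.Ind
import Groth.Agent.Models2.ModuleFP

/-!
# Every module is a filtered colimit of finitely presented modules
-/

set_option autoImplicit false
universe u v' u'
open CategoryTheory CategoryTheory.Limits

namespace K355

variable {A : Type u} [CommRing A]

theorem FP_essentiallySmall : ObjectProperty.EssentiallySmall.{u} (FP A) where
  exists_small_le' := by
    let f : (Σ n : ℕ, Submodule A (Fin n → A)) → ModuleCat.{u} A :=
      fun x => ModuleCat.of A ((Fin x.1 → A) ⧸ x.2)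
    refine ⟨fun X => X ∈ Set.range f, ?_, ?_⟩
    · exact small_of_surjective (f := fun x : (Σ n : ℕ, Submodule A (Fin n → A)) =>
        (⟨f x, x, rfl⟩ : {X // X ∈ Set.range f}))
        (by rintro ⟨_, x, rfl⟩; exact ⟨x, rfl⟩)
    · intro M (hM : Module.FinitePresentation A M)
      obtain ⟨n, K, e, hK⟩ := Module.FinitePresentation.exists_fin A M
      exact ⟨f ⟨n, K⟩, ⟨_, rfl⟩, ⟨e.toModuleIso⟩⟩

/-- An object over `M` in the costructured arrow category. -/
abbrev mkArr (M : ModuleCat.{u} A) (N : Type u) [AddCommGroup N] [Module A N]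
    [h : Module.FinitePresentation A N] (f : N →ₗ[A] M) : CostructuredArrow (FP A).ι M :=
  CostructuredArrow.mk (Y := (⟨ModuleCat.of A N, h⟩ : (FP A).FullSubcategory))
    (ModuleCat.ofHom f)

theorem isFiltered_costructuredArrow (M : ModuleCat.{u} A) :
    IsFiltered (CostructuredArrow (FP A).ι M) where
  cocone_objs X Y := by
    have h1 : Module.FinitePresentation A X.left.obj := X.left.property
    have h2 : Module.FinitePresentation A Y.left.obj := Y.left.property
    let hX : X.left.obj →ₗ[A] M := X.hom.hom
    let hY : Y.left.obj →ₗ[A] M := Y.hom.hom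
    refine ⟨mkArr M (X.left.obj × Y.left.obj) (hX.coprod hY),
      CostructuredArrow.homMk (ObjectProperty.homMk
        (ModuleCat.ofHom (LinearMap.inl A X.left.obj Y.left.obj))) ?_,
      CostructuredArrow.homMk (ObjectProperty.homMk
        (ModuleCat.ofHom (LinearMap.inr A X.left.obj Y.left.obj))) ?_, trivial⟩
    · refine ModuleCat.hom_ext (LinearMap.ext fun x => ?_)
      change hX x + hY 0 = hX x
      rw [map_zero, add_zero]
    · refine ModuleCat.hom_ext (LinearMap.ext fun x => ?_)
      change hX 0 + hY x = hY x
      rw [map_zero, zero_add]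
  cocone_maps X Y f g := by
    have h1 : Module.FinitePresentation A X.left.obj := X.left.property
    have h2 : Module.FinitePresentation A Y.left.obj := Y.left.property
    let hY : Y.left.obj →ₗ[A] M := Y.hom.hom
    let f' : X.left.obj →ₗ[A] Y.left.obj := f.left.hom.hom
    let g' : X.left.obj →ₗ[A] Y.left.obj := g.left.hom.hom
    have h3 : Module.FinitePresentation A (Y.left.obj ⧸ LinearMap.range (f' - g')) := by
      refine Module.finitePresentation_of_surjective (Submodule.mkQ _)
        (Submodule.mkQ_surjective _) ?_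
      rw [Submodule.ker_mkQ, LinearMap.range_eq_map]
      exact Module.Finite.fg_top.map _
    have h4 : LinearMap.range (f' - g') ≤ LinearMap.ker hY := by
      rintro _ ⟨x, rfl⟩
      have ha : hY (f' x) = X.hom.hom x :=
        congrArg (fun t : (FP A).ι.obj X.left ⟶ M => t.hom x) (CostructuredArrow.w f)
      have hb : hY (g' x) = X.hom.hom x :=
        congrArg (fun t : (FP A).ι.obj X.left ⟶ M => t.hom x) (CostructuredArrow.w g)
      rw [LinearMap.mem_ker, LinearMap.sub_apply, map_sub, ha, hb, sub_self]
    refine ⟨mkArr M _ (Submodule.liftQ _ hY h4),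
      CostructuredArrow.homMk (ObjectProperty.homMk (ModuleCat.ofHom (Submodule.mkQ _))) ?_, ?_⟩
    · exact ModuleCat.hom_ext (LinearMap.ext fun x => rfl)
    · refine CostructuredArrow.hom_ext _ _ (ObjectProperty.hom_ext _ (ModuleCat.hom_ext
        (LinearMap.ext fun x => ?_)))
      change Submodule.mkQ (LinearMap.range (f' - g')) (f' x) =
        Submodule.mkQ (LinearMap.range (f' - g')) (g' x)
      rw [← sub_eq_zero, ← map_sub]
      exact (Submodule.Quotient.mk_eq_zero _).mpr ⟨x, rfl⟩
  nonempty := ⟨mkArr M PUnit 0⟩

theorem isGen_FP : IsGen (FP A) where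
  le M hM := by
    have : Module.FinitePresentation A M := hM
    exact Groth.Agent.Models2.ModuleFP.isFinitelyPresentable_of_finitePresentation M
  exists_pres M := by
    have := FP_essentiallySmall (A := A)
    have := isFiltered_costructuredArrow M
    have : EssentiallySmall.{u} (CostructuredArrow (FP A).ι M) := inferInstance
    let e := equivSmallModel.{u} (CostructuredArrow (FP A).ι M)
    have : IsFiltered (SmallModel.{u} (CostructuredArrow (FP A).ι M)) :=
      IsFiltered.of_equivalence e
    let J := SmallModel.{u} (CostructuredArrow (FP A).ι M)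
    let G : J ⥤ CostructuredArrow (FP A).ι M := e.inverse
    let c : Cocone (G ⋙ CostructuredArrow.proj (FP A).ι M ⋙ (FP A).ι) :=
      Cocone.fromCostructuredArrow (FP A).ι G
    have key : ∀ (X : CostructuredArrow (FP A).ι M), ∃ (j : J) (i : X ≅ G.obj j), True :=
      fun X => ⟨e.functor.obj X, e.unitIso.app X, trivial⟩
    have hsurj : ∀ x : c.pt, ∃ (j : J)
        (y : (G ⋙ CostructuredArrow.proj (FP A).ι M ⋙ (FP A).ι).obj j), c.ι.app j y = x := by
      intro x
      obtain ⟨j, i, -⟩ := key (mkArr M A (LinearMap.toSpanSingleton A M x))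
      refine ⟨j, i.hom.left.hom (1 : A), ?_⟩
      have h1 := congrArg (fun t : (FP A).ι.obj (mkArr M A _).left ⟶ M => t.hom (1 : A))
        (CostructuredArrow.w i.hom)
      refine Eq.trans h1 ?_
      change (1 : A) • x = x
      rw [one_smul]
    have hinj : ∀ (j : J) (x : (G ⋙ CostructuredArrow.proj (FP A).ι M ⋙ (FP A).ι).obj j),
        c.ι.app j x = 0 → ∃ (k : J) (f : j ⟶ k),
          (G ⋙ CostructuredArrow.proj (FP A).ι M ⋙ (FP A).ι).map f x = 0 := by
      intro j x hx
      have h2 : Module.FinitePresentation A (G.obj j).left.obj := (G.obj j).left.property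
      let N := (G.obj j).left.obj
      let h : N →ₗ[A] M := (G.obj j).hom.hom
      let x' : N := x
      have hx' : h x' = 0 := hx
      have h3 : Module.FinitePresentation A (N ⧸ Submodule.span A {x'}) := by
        refine Module.finitePresentation_of_surjective (Submodule.mkQ _)
          (Submodule.mkQ_surjective _) ?_
        rw [Submodule.ker_mkQ]
        exact Submodule.fg_span_singleton x'
      let q : G.obj j ⟶ mkArr M (N ⧸ Submodule.span A {x'}) (Submodule.liftQ _ h (by
          rw [Submodule.span_singleton_le_iff_mem]; exact hx')) :=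
        CostructuredArrow.homMk (ObjectProperty.homMk (ModuleCat.ofHom (Submodule.mkQ _)))
          (ModuleCat.hom_ext (LinearMap.ext fun x => rfl))
      obtain ⟨k, i, -⟩ := key (mkArr M (N ⧸ Submodule.span A {x'}) (Submodule.liftQ _ h (by
          rw [Submodule.span_singleton_le_iff_mem]; exact hx')))
      refine ⟨k, G.preimage (q ≫ i.hom), ?_⟩
      change (G.map (G.preimage (q ≫ i.hom))).left.hom x = 0
      rw [G.map_preimage]
      change i.hom.left.hom (Submodule.mkQ (Submodule.span A {x'}) x') = 0
      have h4 : Submodule.mkQ (Submodule.span A {x'}) x' = 0 :=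
        (Submodule.Quotient.mk_eq_zero _).mpr (Submodule.mem_span_singleton_self x')
      rw [h4, map_zero]
    exact ⟨J, inferInstance, inferInstance, ⟨{
      diag := G ⋙ CostructuredArrow.proj (FP A).ι M ⋙ (FP A).ι
      ι := c.ι
      isColimit := Groth.Agent.Models2.ModuleFP.isColimitOf c hsurj hinj
      prop_diag_obj := fun j => (G.obj j).left.property }⟩⟩

end K355
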