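import Mathlib.Algebra.Category.ModuleCat.Kernels
import Mathlib.Algebra.Category.ModuleCat.Abelian
import Mathlib.Algebra.Category.ModuleCat.Biproducts
import Mathlib.Algebra.Category.ModuleCat.Limits
import Mathlib.Algebra.Module.FinitePresentation
import Mathlib.CategoryTheory.ObjectProperty.Kernels
import Mathlib.CategoryTheory.ObjectProperty.FiniteProducts
import Mathlib.CategoryTheory.Preadditive.AdditiveFunctor
import Mathlib.CategoryTheory.Limits.Preserves.Finite

/-!
# The category of finitely presented modules

`K355.FP A` is the property of being finitely presented.  Its full subcategory is closed under finite products and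
cokernels (and under kernels, if `A` is coherent), so it is an additive category with cokernels.
-/

set_option autoImplicit false
universe u v' u' w
open CategoryTheory CategoryTheory.Limits

namespace K355

section

variable (A : Type u) [CommRing A]

/-- Finitely presented modules, as an object property of `ModuleCat A`. -/
abbrev FP : ObjectProperty (ModuleCat.{u} A) := fun M => Module.FinitePresentation A M

theorem FP.isClosedUnderIsomorphisms : (FP A).IsClosedUnderIsomorphisms where
  of_iso {X Y} e (hX : Module.FinitePresentation A X) := by
    exact Module.FinitePresentation.of_equiv e.toLinearEquiv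

theorem FP.containsZero : (FP A).ContainsZero where
  exists_zero := ⟨ModuleCat.of A PUnit, ModuleCat.isZero_of_subsingleton _, by
    change Module.FinitePresentation A PUnit
    infer_instance⟩

theorem FP.isClosedUnderBinaryProducts : (FP A).IsClosedUnderBinaryProducts where
  limitsOfShape_le := by
    rintro X ⟨p⟩
    have h1 : Module.FinitePresentation A (p.diag.obj ⟨WalkingPair.left⟩) := p.prop_diag_obj _
    have h2 : Module.FinitePresentation A (p.diag.obj ⟨WalkingPair.right⟩) := p.prop_diag_obj _
    have e : X ≅ ModuleCat.of A (p.diag.obj ⟨WalkingPair.left⟩ × p.diag.obj ⟨WalkingPair.right⟩) :=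
      p.isLimit.conePointsIsoOfNatIso
        (ModuleCat.binaryProductLimitCone (p.diag.obj ⟨WalkingPair.left⟩)
          (p.diag.obj ⟨WalkingPair.right⟩)).isLimit (diagramIsoPair p.diag)
    exact Module.FinitePresentation.of_equiv e.symm.toLinearEquiv

theorem FP.isClosedUnderFiniteProducts : (FP A).IsClosedUnderFiniteProducts := by
  have := FP.isClosedUnderIsomorphisms A
  have := FP.containsZero A
  have := FP.isClosedUnderBinaryProducts A
  exact .mk'

theorem FP.isClosedUnderCokernels : (FP A).IsClosedUnderCokernels where
  cokernels_le := by
    rintro _ ⟨f, k, hk, hf⟩
    rename_i X₁ X₂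
    have h1 : Module.FinitePresentation A X₁ := hf.1
    have h2 : Module.FinitePresentation A X₂ := hf.2
    have e := hk.coconePointUniqueUpToIso (ModuleCat.cokernelIsColimit f)
    have h3 : Module.FinitePresentation A (X₂ ⧸ LinearMap.range f.hom) := by
      refine Module.finitePresentation_of_surjective (Submodule.mkQ _)
        (Submodule.mkQ_surjective _) ?_
      rw [Submodule.ker_mkQ, LinearMap.range_eq_map]
      exact Module.Finite.fg_top.map _
    have h4 : Module.FinitePresentation A (ModuleCat.cokernelCocone f).pt := h3
    exact Module.FinitePresentation.of_equiv (N := k.pt) e.symm.toLinearEquiv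

theorem hasFiniteProducts_FP : HasFiniteProducts (FP A).FullSubcategory := by
  have := FP.isClosedUnderFiniteProducts A
  infer_instance

theorem hasFiniteBiproducts_FP : HasFiniteBiproducts (FP A).FullSubcategory := by
  have := hasFiniteProducts_FP A
  exact HasFiniteBiproducts.of_hasFiniteProducts

theorem hasCokernels_FP : HasCokernels (FP A).FullSubcategory := by
  have := FP.isClosedUnderCokernels A
  infer_instance

end

end K355
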