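import Groth.Agent.FunMor.K355.FPWatts
import Mathlib.CategoryTheory.Preadditive.LeftExact
import Mathlib.CategoryTheory.Preadditive.Biproducts

/-!
# The right exact functor on finitely presented modules with a given value at `A`
-/

set_option autoImplicit false
universe u v' u' w
open CategoryTheory CategoryTheory.Limits

namespace K355

variable {A : Type u} [CommRing A] {B : Type u'} [Category.{v'} B] [Preadditive B]
  {K : B} (κ : A →+* End K)

/-- `A`-linear maps `M → Hom(K, Z)`. -/
structure IsLin {M : Type u} [AddCommGroup M] [Module A M] {Z : B} (h : M → (K ⟶ Z)) : Prop where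
  add : ∀ x y, h (x + y) = h x + h y
  smul : ∀ (a : A) x, h (a • x) = (show K ⟶ K from κ a) ≫ h x

variable {κ}

theorem IsLin.zero {M : Type u} [AddCommGroup M] [Module A M] {Z : B} {h : M → (K ⟶ Z)}
    (hh : IsLin κ h) : h 0 = 0 := (AddMonoidHom.mk' h hh.add).map_zero

theorem IsLin.neg {M : Type u} [AddCommGroup M] [Module A M] {Z : B} {h : M → (K ⟶ Z)}
    (hh : IsLin κ h) (x : M) : h (-x) = -h x := (AddMonoidHom.mk' h hh.add).map_neg x

theorem IsLin.comp {M : Type u} [AddCommGroup M] [Module A M] {Z W : B} {h : M → (K ⟶ Z)}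
    (hh : IsLin κ h) (g : Z ⟶ W) : IsLin κ (fun x => h x ≫ g) where
  add x y := by rw [hh.add, Preadditive.add_comp]
  smul a x := by rw [hh.smul, Category.assoc]

theorem IsLin.precomp {M N : Type u} [AddCommGroup M] [Module A M] [AddCommGroup N] [Module A N]
    {Z : B} {h : M → (K ⟶ Z)} (hh : IsLin κ h) (f : N →ₗ[A] M) : IsLin κ (fun x => h (f x)) where
  add x y := by rw [map_add, hh.add]
  smul a x := by rw [map_smul, hh.smul]

variable (κ) in
/-- `Q` represents the `A`-linear maps `M → Hom(K, Z)`. -/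
structure IsRep (M : Type u) [AddCommGroup M] [Module A M] (Q : B) (u : M → (K ⟶ Q)) : Prop where
  lin : IsLin κ u
  ex : ∀ {Z : B} (h : M → (K ⟶ Z)), IsLin κ h → ∃ g : Q ⟶ Z, ∀ x, u x ≫ g = h x
  uniq : ∀ {Z : B} (g g' : Q ⟶ Z), (∀ x, u x ≫ g = u x ≫ g') → g = g'

theorem isRep_A : IsRep κ A K κ where
  lin := ⟨fun x y => κ.map_add x y, fun a x => by
    rw [smul_eq_mul, mul_comm, κ.map_mul]; rfl⟩
  ex {Z} h hh := ⟨h 1, fun x => by
    rw [← hh.smul, smul_eq_mul, mul_one]⟩
  uniq {Z} g g' hg := by
    have := hg 1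
    rw [κ.map_one] at this
    simpa using this

open scoped Classical in
theorem exists_isRep_free [HasFiniteBiproducts B] (I : Type u) [Finite I] :
    ∃ (Q : B) (u : (I →₀ A) → (K ⟶ Q)), IsRep κ (I →₀ A) Q u := by
  have : Fintype I := Fintype.ofFinite I
  let k (a : A) : K ⟶ K := κ a
  have k_add : ∀ a b, k (a + b) = k a + k b := fun a b => κ.map_add a b
  have k_mul : ∀ a b, k (a * b) = k a ≫ k b := fun a b => by
    change κ (a * b) = _
    rw [mul_comm, κ.map_mul]; rfl
  have k_one : k 1 = 𝟙 K := κ.map_one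
  have k_zero : k 0 = 0 := κ.map_zero
  refine ⟨⨁ fun _ : I => K, fun x => ∑ i, k (x i) ≫ biproduct.ι (fun _ : I => K) i, ?_, ?_, ?_⟩
  · refine ⟨fun x y => ?_, fun a x => ?_⟩
    · rw [← Finset.sum_add_distrib]
      refine Finset.sum_congr rfl fun i _ => ?_
      rw [Finsupp.add_apply, k_add, Preadditive.add_comp]
    · change _ = k a ≫ _
      rw [Preadditive.comp_sum]
      refine Finset.sum_congr rfl fun i _ => ?_
      rw [Finsupp.smul_apply, smul_eq_mul, k_mul, Category.assoc]
  · intro Z h hh
    refine ⟨biproduct.desc (fun i => h (Finsupp.single i 1)), fun x => ?_⟩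
    rw [Preadditive.sum_comp]
    have h1 : ∀ i, (k (x i) ≫ biproduct.ι (fun _ : I => K) i) ≫
        biproduct.desc (fun i => h (Finsupp.single i 1)) = h (Finsupp.single i (x i)) := by
      intro i
      rw [Category.assoc, biproduct.ι_desc]
      change (show K ⟶ K from κ (x i)) ≫ _ = _
      rw [← hh.smul, Finsupp.smul_single, smul_eq_mul, mul_one]
    rw [Finset.sum_congr rfl (fun i _ => h1 i)]
    let hh' : (I →₀ A) →+ (K ⟶ Z) := AddMonoidHom.mk' h hh.add
    change ∑ i, hh' (Finsupp.single i (x i)) = hh' x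
    rw [← map_sum]
    congr 1
    exact Finsupp.univ_sum_single x
  · intro Z g g' hg
    refine biproduct.hom_ext' _ _ fun i => ?_
    have h1 : (∑ j, k ((Finsupp.single i (1 : A) : I →₀ A) j) ≫ biproduct.ι (fun _ : I => K) j) =
        biproduct.ι (fun _ : I => K) i := by
      rw [Finset.sum_eq_single i]
      · rw [Finsupp.single_eq_same, k_one, Category.id_comp]
      · intro j _ hj
        rw [Finsupp.single_eq_of_ne hj, k_zero, zero_comp]
      · intro h; exact absurd (Finset.mem_univ i) h
    have := hg (Finsupp.single i 1)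
    rwa [h1] at this

theorem exists_isRep_coker [HasCokernels B] {L M N : Type u} [AddCommGroup L] [Module A L]
    [AddCommGroup M] [Module A M] [AddCommGroup N] [Module A N] (q : L →ₗ[A] M) (p : M →ₗ[A] N)
    (hp : Function.Surjective p) (hpq : Function.Exact q p) {QL QM : B} {uL : L → (K ⟶ QL)}
    {uM : M → (K ⟶ QM)} (hL : IsRep κ L QL uL) (hM : IsRep κ M QM uM) :
    ∃ (Q : B) (u : N → (K ⟶ Q)), IsRep κ N Q u := by
  obtain ⟨g, hg⟩ := hL.ex _ (hM.lin.precomp q)
  choose σ hσ using hp
  have key : ∀ m : M, p m = 0 → uM m ≫ cokernel.π g = 0 := by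
    intro m hm
    obtain ⟨l, rfl⟩ := (hpq m).mp hm
    rw [← hg l, Category.assoc, cokernel.condition, comp_zero]
  have key2 : ∀ m m' : M, p m = p m' → uM m ≫ cokernel.π g = uM m' ≫ cokernel.π g := by
    intro m m' hm
    have := key (m + -m') (by rw [map_add, map_neg, hm, add_neg_cancel])
    rw [hM.lin.add, hM.lin.neg, Preadditive.add_comp, Preadditive.neg_comp] at this
    exact add_neg_eq_zero.mp this
  refine ⟨cokernel g, fun n => uM (σ n) ≫ cokernel.π g, ⟨fun x y => ?_, fun a x => ?_⟩, ?_, ?_⟩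
  · rw [key2 (σ (x + y)) (σ x + σ y) (by simp only [map_add, hσ]), hM.lin.add,
      Preadditive.add_comp]
  · rw [key2 (σ (a • x)) (a • σ x) (by simp only [map_smul, hσ]), hM.lin.smul, Category.assoc]
  · intro Z h hh
    obtain ⟨l, hl⟩ := hM.ex _ (hh.precomp p)
    refine ⟨cokernel.desc g l ?_, fun x => ?_⟩
    · refine hL.uniq _ _ fun x => ?_
      rw [← Category.assoc, hg, hl, (hpq (q x)).mpr ⟨x, rfl⟩, hh.zero, comp_zero]
    · rw [Category.assoc, cokernel.π_desc, hl, hσ]
  · intro Z l l' hl
    refine (cancel_epi (cokernel.π g)).mp (hM.uniq _ _ fun x => ?_)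
    have := hl (p x)
    rw [← Category.assoc, ← Category.assoc, key2 x (σ (p x)) (hσ _).symm]
    exact this

theorem exists_isRep [HasFiniteBiproducts B] [HasCokernels B] (M : ModuleCat.{u} A)
    [Module.FinitePresentation A M] : ∃ (Q : B) (u : M → (K ⟶ Q)), IsRep κ M Q u := by
  obtain ⟨I, J, hI, hJ, p, q, hp, hpq⟩ := exists_presentation M
  obtain ⟨Q, u, h⟩ := exists_isRep_free (κ := κ) I
  obtain ⟨Q', u', h'⟩ := exists_isRep_free (κ := κ) J
  exact exists_isRep_coker q p hp hpq h' h

section functor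

variable [HasFiniteBiproducts B] [HasCokernels B] (κ)

theorem exists_isRep' (M : (FP A).FullSubcategory) :
    ∃ (Q : B) (u : M.obj → (K ⟶ Q)), IsRep κ M.obj Q u :=
  have : Module.FinitePresentation A M.obj := M.property
  exists_isRep M.obj

/-- The representing object. -/
noncomputable def RQ (M : (FP A).FullSubcategory) : B := (exists_isRep' κ M).choose

/-- The universal element. -/
noncomputable def RU (M : (FP A).FullSubcategory) : M.obj → (K ⟶ RQ κ M) :=
  (exists_isRep' κ M).choose_spec.choose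

theorem RS (M : (FP A).FullSubcategory) : IsRep κ M.obj (RQ κ M) (RU κ M) :=
  (exists_isRep' κ M).choose_spec.choose_spec

/-- The functoriality. -/
noncomputable def RM {M N : (FP A).FullSubcategory} (f : M ⟶ N) : RQ κ M ⟶ RQ κ N :=
  ((RS κ M).ex _ ((RS κ N).lin.precomp f.hom.hom)).choose

theorem RM_spec {M N : (FP A).FullSubcategory} (f : M ⟶ N) (x : M.obj) :
    RU κ M x ≫ RM κ f = RU κ N (f.hom x) :=
  ((RS κ M).ex _ ((RS κ N).lin.precomp f.hom.hom)).choose_spec x

/-- The right exact functor `M ↦ M ⊗ K`. -/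
noncomputable def RF : (FP A).FullSubcategory ⥤ B where
  obj M := RQ κ M
  map f := RM κ f
  map_id M := (RS κ M).uniq _ _ fun x => by rw [RM_spec, Category.comp_id]; rfl
  map_comp f g := (RS κ _).uniq _ _ fun x => by
    rw [RM_spec, ← Category.assoc, RM_spec, RM_spec]; rfl

/-- The universal element of `(RF κ).obj M`. -/
noncomputable def RFu (M : (FP A).FullSubcategory) : M.obj → (K ⟶ (RF κ).obj M) := RU κ M

theorem RFS (M : (FP A).FullSubcategory) : IsRep κ M.obj ((RF κ).obj M) (RFu κ M) := RS κ M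

theorem RFu_map {M N : (FP A).FullSubcategory} (f : M ⟶ N) (x : M.obj) :
    RFu κ M x ≫ (RF κ).map f = RFu κ N (f.hom x) := RM_spec κ f x

theorem RF_additive : (RF κ).Additive where
  map_add {M N f g} := (RFS κ M).uniq _ _ fun x => by
    rw [Preadditive.comp_add, RFu_map, RFu_map, RFu_map, ← (RFS κ N).lin.add]
    rfl

theorem RF_preservesCokernel {M N : (FP A).FullSubcategory} (f : M ⟶ N) :
    PreservesColimit (parallelPair f 0) (RF κ) := by
  have := RF_additive κ
  have hFP : Module.FinitePresentation A (N.obj ⧸ LinearMap.range f.hom.hom) := by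
    have h1 : Module.FinitePresentation A N.obj := N.property
    have h2 : Module.FinitePresentation A M.obj := M.property
    refine Module.finitePresentation_of_surjective (Submodule.mkQ _)
      (Submodule.mkQ_surjective _) ?_
    rw [Submodule.ker_mkQ, LinearMap.range_eq_map]
    exact Module.Finite.fg_top.map _
  let C : (FP A).FullSubcategory := ⟨ModuleCat.of A (N.obj ⧸ LinearMap.range f.hom.hom), hFP⟩
  let p : N ⟶ C := ObjectProperty.homMk (ModuleCat.ofHom (Submodule.mkQ _))
  have hp : Function.Surjective p.hom := Submodule.mkQ_surjective _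
  have hfp : Function.Exact f.hom p.hom := LinearMap.exact_map_mkQ_range f.hom.hom
  refine preservesColimit_of_preserves_colimit_cocone (isColimitOfExact f p hfp hp) ?_
  refine (isColimitMapCoconeCoforkEquiv' _ _).symm ?_
  have hepi : ∀ {Z : B} (l l' : (RF κ).obj C ⟶ Z), (RF κ).map p ≫ l = (RF κ).map p ≫ l' →
      l = l' := by
    intro Z l l' hl
    refine (RFS κ C).uniq _ _ fun x => ?_
    obtain ⟨y, rfl⟩ := hp x
    have h1 : RFu κ N y ≫ (RF κ).map p = RFu κ C (p.hom y) := RFu_map κ p y
    rw [← h1, Category.assoc, Category.assoc, hl]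
  have hdesc : ∀ {Z : B} (k : (RF κ).obj N ⟶ Z), (RF κ).map f ≫ k = 0 →
      ∃ l : (RF κ).obj C ⟶ Z, (RF κ).map p ≫ l = k := by
    intro Z k hk
    have h0 : ∀ y : M.obj, RFu κ N (f.hom y) ≫ k = 0 := by
      intro y
      have h1 : RFu κ M y ≫ (RF κ).map f = RFu κ N (f.hom y) := RFu_map κ f y
      rw [← h1, Category.assoc, hk, comp_zero]
    have h2 : ∀ x x' : N.obj, p.hom x = p.hom x' → RFu κ N x ≫ k = RFu κ N x' ≫ k := by
      intro x x' hx
      obtain ⟨y, hy⟩ := (hfp (x + -x')).mp (by
        rw [map_add, map_neg, hx, add_neg_cancel])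
      have h3 := h0 y
      rw [hy, (RFS κ N).lin.add, (RFS κ N).lin.neg, Preadditive.add_comp,
        Preadditive.neg_comp] at h3
      exact add_neg_eq_zero.mp h3
    choose σ hσ using hp
    obtain ⟨l, hl⟩ := (RFS κ C).ex (fun x => RFu κ N (σ x) ≫ k)
      ⟨fun x y => by
        rw [h2 (σ (x + y)) (σ x + σ y) (by simp only [map_add, hσ]), (RFS κ N).lin.add,
          Preadditive.add_comp], fun a x => by
        rw [h2 (σ (a • x)) (a • σ x) (by simp only [map_smul, hσ]), (RFS κ N).lin.smul,
          Category.assoc]⟩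
    refine ⟨l, (RFS κ N).uniq _ _ fun x => ?_⟩
    have h1 : RFu κ N x ≫ (RF κ).map p = RFu κ C (p.hom x) := RFu_map κ p x
    rw [← Category.assoc, h1]
    exact (hl _).trans (h2 _ _ (hσ _))
  exact CokernelCofork.IsColimit.ofπ _ _ (fun k hk => (hdesc k hk).choose)
    (fun k hk => (hdesc k hk).choose_spec)
    (fun k hk m hm => hepi _ _ (hm.trans (hdesc k hk).choose_spec.symm))

theorem RF_preservesFiniteColimits : PreservesFiniteColimits (RF κ) := by
  have := hasFiniteBiproducts_FP A
  have := hasCokernels_FP A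
  have := RF_additive κ
  have := fun {M N : (FP A).FullSubcategory} (f : M ⟶ N) => RF_preservesCokernel κ f
  have : HasCoequalizers (FP A).FullSubcategory := Preadditive.hasCoequalizers_of_hasCokernels
  have : HasBinaryBiproducts (FP A).FullSubcategory := HasBinaryBiproducts.of_hasBinaryProducts
  exact Functor.preservesFiniteColimits_of_preservesCokernels (RF κ)

end functor

end K355
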