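import Groth.Agent.FunMor.K355.Watts
import Mathlib.CategoryTheory.ObjectProperty.Equivalence
import Mathlib.CategoryTheory.Adjunction.Limits

/-!
# Right exact functors on the category of all modules preserving direct sums
-/

set_option autoImplicit false
universe u v' u' w
open CategoryTheory CategoryTheory.Limits

namespace K355

variable {A : Type u} [CommRing A] {B : Type u'} [Category.{v'} B] [Preadditive B]

theorem exists_presentation_mod (M : ModuleCat.{u} A) :
    ∃ (I J : Type u) (p : (I →₀ A) →ₗ[A] M)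
      (q : (J →₀ A) →ₗ[A] (I →₀ A)), Function.Surjective p ∧ Function.Exact q p := by
  let p : (M →₀ A) →ₗ[A] M := Finsupp.linearCombination A _root_.id
  have hp : Function.Surjective p := fun m => ⟨Finsupp.single m 1, by simp [p]⟩
  let q : (LinearMap.ker p →₀ A) →ₗ[A] (M →₀ A) :=
    (LinearMap.ker p).subtype.comp (Finsupp.linearCombination A _root_.id)
  refine ⟨M, LinearMap.ker p, p, q, hp, ?_⟩
  intro x
  constructor
  · intro hx
    exact ⟨Finsupp.single ⟨x, hx⟩ 1, by simp [q]⟩
  · rintro ⟨y, rfl⟩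
    exact (Finsupp.linearCombination A _root_.id y : LinearMap.ker p).2

/-- The morphism `A → M`. -/
abbrev ptM {M : ModuleCat.{u} A} (x : M) : ModuleCat.of A A ⟶ M :=
  ModuleCat.ofHom (LinearMap.toSpanSingleton A M x)

theorem existsUnique_desc_mod (F : ModuleCat.{u} A ⥤ B) [F.Additive] [PreservesFiniteColimits F]
    [∀ J : Type u, PreservesColimitsOfShape (Discrete J) F]
    (M : ModuleCat.{u} A) {Z : B} (h : M → (F.obj (ModuleCat.of A A) ⟶ Z))
    (hadd : ∀ x y, h (x + y) = h x + h y)
    (hsmul : ∀ (a : A) x, h (a • x) = F.map (ModuleCat.ofHom (LinearMap.lsmul A A a)) ≫ h x) :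
    ∃! g : F.obj M ⟶ Z, ∀ x : M, F.map (ptM x) ≫ g = h x := by
  obtain ⟨I, J, p, q, hp, hpq⟩ := exists_presentation_mod M
  have : (⊤ : ObjectProperty (ModuleCat.{u} A)).ι.IsEquivalence :=
    (ObjectProperty.topEquivalence (ModuleCat.{u} A)).isEquivalence_functor
  have : ∀ J : Type u, PreservesColimitsOfShape (Discrete J)
    ((⊤ : ObjectProperty (ModuleCat.{u} A)).ι ⋙ F) := fun J => inferInstance
  have : PreservesFiniteColimits ((⊤ : ObjectProperty (ModuleCat.{u} A)).ι ⋙ F) :=
    comp_preservesFiniteColimits _ _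
  exact existsUnique_desc (P := ⊤) trivial ((⊤ : ObjectProperty (ModuleCat.{u} A)).ι ⋙ F)
    (M := ⟨M, trivial⟩) trivial trivial p hp q hpq h hadd hsmul

end K355
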