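import Groth.Agent.FunMor.K355.SecQ
import Mathlib.Algebra.Category.Grp.FilteredColimits
import Mathlib.CategoryTheory.Limits.Types.Filtered

/-!
# Sections of quasi-coherent modules over quasi-compact quasi-separated opens commute with filtered colimits
-/

set_option autoImplicit false
universe u v' u'
open CategoryTheory CategoryTheory.Limits AlgebraicGeometry TopologicalSpace Opposite

namespace K355

open Groth.Agent.Models2.QCohColim Groth.Agent.Models2.QCohPush

/-- A cocone of abelian groups over a filtered diagram is a colimit if it is so elementwise. -/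
theorem isColimit_ab {J : Type u} [SmallCategory J] [IsFiltered J] {D : J ⥤ Ab.{u}}
    (c : Cocone D) (hsurj : ∀ x : c.pt, ∃ (j : J) (y : D.obj j), c.ι.app j y = x)
    (hinj : ∀ (j : J) (x y : D.obj j), c.ι.app j x = c.ι.app j y →
      ∃ (k : J) (u : j ⟶ k), D.map u x = D.map u y) : Nonempty (IsColimit c) := by
  have := reflectsColimitsOfShape_of_reflectsIsomorphisms (G := forget Ab.{u}) (J := J)
  refine ⟨isColimitOfReflects (forget Ab.{u}) ?_⟩
  refine Types.FilteredColimit.isColimitOf' _ _ (fun x => ?_) (fun j x y h => ?_)
  · obtain ⟨j, y, hy⟩ := hsurj x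
    exact ⟨j, y, hy.symm⟩
  · exact hinj j x y h

variable {X : Scheme.{u}}

theorem preservesFiltered_secQ_of_compact [QuasiSeparatedSpace X] (U : X.Opens)
    (hU : IsCompact (U : Set X)) (J : Type u) [SmallCategory J] [IsFiltered J] :
    PreservesColimitsOfShape J (secQ U) where
  preservesColimit {_} := ⟨fun {_} hc => isColimit_ab _
    (fun x => sections_surj hc U hU x) (fun _ x y h => sections_inj hc U hU x y h)⟩

/-- Sections over an open are sections over the whole space of the restriction. -/
noncomputable def secQRestrict {W : Scheme.{u}} (f : W ⟶ X) [IsOpenImmersion f] :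
    restrictQ f ⋙ secQ (⊤ : W.Opens) ≅ secQ (f ''ᵁ ⊤) :=
  NatIso.ofComponents (fun _ => Iso.refl _) (fun {_ _} g =>
    (Category.comp_id ((restrictQ f ⋙ secQ (⊤ : W.Opens)).map g)).trans
      (Category.id_comp ((secQ (f ''ᵁ ⊤)).map g)).symm)

theorem preservesColimits_restrictQ {W : Scheme.{u}} (f : W ⟶ X) [IsOpenImmersion f]
    (J : Type u) [SmallCategory J] : PreservesColimitsOfShape J (restrictQ f) := by
  have h0 : PreservesColimitsOfSize.{u, u} (Scheme.Modules.restrictFunctor f) :=
    (Scheme.Modules.restrictAdjunction f).leftAdjoint_preservesColimits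
  have h1 : PreservesColimitsOfShape J (Scheme.Modules.restrictFunctor f) := inferInstance
  have h2 : PreservesColimitsOfShape J
    ((QCohCat.isQCoh X).ι ⋙ Scheme.Modules.restrictFunctor f) := inferInstance
  have h : PreservesColimitsOfShape J (restrictQ f ⋙ (QCohCat.isQCoh W).ι) := h2
  exact preservesColimitsOfShape_of_reflects_of_preserves _ (QCohCat.isQCoh W).ι

theorem preservesFiltered_secQ (U : X.Opens) (hU : IsCompact (U : Set X))
    (hU' : QuasiSeparatedSpace U.toScheme) (J : Type u) [SmallCategory J] [IsFiltered J] :
    PreservesColimitsOfShape J (secQ U) := by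
  have h1 : PreservesColimitsOfShape J (secQ (⊤ : U.toScheme.Opens)) :=
    preservesFiltered_secQ_of_compact _ (by
      have : CompactSpace U.toScheme := isCompact_iff_compactSpace.1 hU
      exact isCompact_univ) J
  have h2 := preservesColimits_restrictQ U.ι J
  have h3 : PreservesColimitsOfShape J (restrictQ U.ι ⋙ secQ (⊤ : U.toScheme.Opens)) :=
    inferInstance
  exact preservesColimitsOfShape_of_natIso (secQRestrict U.ι ≪≫ secQCongr (by simp))

/-- Pushforward along a quasi-compact quasi-separated morphism preserves filtered colimits of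
quasi-coherent modules. -/
theorem preservesFiltered_pushQ {Y : Scheme.{u}} (f : X ⟶ Y) [QuasiCompact f] [QuasiSeparated f]
    (J : Type u) [SmallCategory J] [IsFiltered J] : PreservesColimitsOfShape J (pushQ f) := by
  refine preservesColimits_of_secQ _ J fun U => ?_
  refine preservesFiltered_secQ (f ⁻¹ᵁ U.1) ?_ ?_ J
  · exact QuasiCompact.isCompact_preimage (f := f) U.1.1 U.1.2 U.2.isCompact
  · have : IsAffine U.1.toScheme := U.2
    exact quasiSeparatedSpace_of_quasiSeparated (f ∣_ U.1)

theorem preservesFiltered_push {Y : Scheme.{u}} (f : X ⟶ Y) [QuasiCompact f] [QuasiSeparated f]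
    (J : Type u) [SmallCategory J] [IsFiltered J] :
    PreservesColimitsOfShape J ((QCohCat.isQCoh X).ι ⋙ Scheme.Modules.pushforward f) := by
  have := preservesFiltered_pushQ f J
  have h : PreservesColimitsOfShape J (pushQ f ⋙ (QCohCat.isQCoh Y).ι) := inferInstance
  exact h

end K355
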